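import Cfsg.Agent.DihedralBGroup.Ring

/-!
Primitive Schur rings over dihedral groups: every class is symmetric and meets the rotations, so
an element of the ring is determined by its rotation part and the ring is commutative.
-/

set_option autoImplicit false
set_option linter.unusedSectionVars false

namespace Cfsg.Lib.DihedralB

open DihedralGroup Finset

variable {m : ℕ} [NeZero m]

/-- A function constant on the classes `T`. -/
def IsInv (T : DihedralGroup m → Finset (DihedralGroup m)) (f : El m) : Prop :=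
  ∀ x y, y ∈ T x → f.coeff y = f.coeff x

/-- A primitive Schur ring over the dihedral group, given by its classes. -/
structure SR (m : ℕ) [NeZero m] where
  /-- the class of an element -/
  T : DihedralGroup m → Finset (DihedralGroup m)
  two_le : 2 ≤ m
  self : ∀ x, x ∈ T x
  eq : ∀ x y, y ∈ T x → T y = T x
  one : T 1 = {1}
  inv : ∀ x y, y ∈ T x → y⁻¹ ∈ T x⁻¹
  mul : ∀ f g : El m, IsInv T f → IsInv T g → IsInv T (f * g)
  prim : ∀ K : Subgroup (DihedralGroup m), (∀ x ∈ K, ∀ y ∈ T x, y ∈ K) → K = ⊥ ∨ K = ⊤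

/-- The subgroup of rotations. -/
def rotSubgroup (m : ℕ) : Subgroup (DihedralGroup m) where
  carrier := {x | ∃ i, x = r i}
  one_mem' := ⟨0, DihedralGroup.one_def⟩
  mul_mem' := by rintro _ _ ⟨i, rfl⟩ ⟨j, rfl⟩; exact ⟨i + j, r_mul_r i j⟩
  inv_mem' := by rintro _ ⟨i, rfl⟩; exact ⟨-i, inv_r i⟩

theorem rotSubgroup_ne_top : rotSubgroup m ≠ ⊤ := by
  intro h
  obtain ⟨i, hi⟩ : (sr 0 : DihedralGroup m) ∈ rotSubgroup m := h ▸ Subgroup.mem_top _
  cases hi

theorem dvd_iff_coeff (n : ℤ) (f : El m) : (n : El m) ∣ f ↔ ∀ x, n ∣ f.coeff x := by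
  constructor
  · rintro ⟨g, rfl⟩ x
    rw [← zsmul_eq_mul, MonoidAlgebra.coeff_smul, Finsupp.smul_apply, zsmul_eq_mul]
    exact dvd_mul_right _ _
  · intro h
    choose c hc using h
    refine ⟨mkEl c, ?_⟩
    rw [← zsmul_eq_mul]
    refine MonoidAlgebra.ext (Finsupp.ext fun x => ?_)
    rw [MonoidAlgebra.coeff_smul, Finsupp.smul_apply, mkEl_coeff, smul_eq_mul, hc x]

theorem Sc.dvd_iff_coeff (n : ℤ) (f : Sc m) : (n : Sc m) ∣ f ↔ ∀ i, n ∣ f.coeff i := by
  constructor
  · rintro ⟨g, rfl⟩ x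
    rw [← zsmul_eq_mul, AddMonoidAlgebra.coeff_smul, Finsupp.smul_apply, zsmul_eq_mul]
    exact dvd_mul_right _ _
  · intro h
    choose c hc using h
    refine ⟨mkSc c, ?_⟩
    rw [← zsmul_eq_mul]
    refine AddMonoidAlgebra.ext (Finsupp.ext fun x => ?_)
    rw [AddMonoidAlgebra.coeff_smul, Finsupp.smul_apply, mkSc_coeff, smul_eq_mul, hc x]

/-- The indicator of a set. -/
noncomputable def ind (S : Finset (DihedralGroup m)) : El m :=
  mkEl fun x => if x ∈ S then 1 else 0

@[simp] theorem ind_coeff (S : Finset (DihedralGroup m)) (x : DihedralGroup m) :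
    (ind S).coeff x = if x ∈ S then 1 else 0 := rfl

theorem coeff_one' (x : DihedralGroup m) :
    (1 : El m).coeff x = if x = 1 then 1 else 0 := by
  classical
  rw [MonoidAlgebra.one_def, MonoidAlgebra.coeff_single, Finsupp.single_apply]
  simp only [eq_comm (a := (1 : DihedralGroup m))]

namespace SR

variable (R : SR m)

/-- Membership in the ring. -/
def Inv (f : El m) : Prop := IsInv R.T f

theorem mem_iff (x y : DihedralGroup m) : y ∈ R.T x ↔ R.T y = R.T x :=
  ⟨R.eq x y, fun h => h ▸ R.self y⟩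

theorem mem_symm {x y : DihedralGroup m} (h : y ∈ R.T x) : x ∈ R.T y := R.eq x y h ▸ R.self x

theorem one_not_mem {x : DihedralGroup m} (hx : x ≠ 1) : (1 : DihedralGroup m) ∉ R.T x := by
  intro h
  have := R.mem_symm h
  rw [R.one, Finset.mem_singleton] at this
  exact hx this

theorem inv_ind (x : DihedralGroup m) : R.Inv (ind (R.T x)) := by
  intro a b hb
  simp only [ind_coeff, R.mem_iff, R.eq a b hb]

theorem inv_ind_union (S : Finset (DihedralGroup m)) (hS : ∀ x ∈ S, ∀ y ∈ R.T x, y ∈ S) :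
    R.Inv (ind S) := by
  intro a b hb
  have : b ∈ S ↔ a ∈ S := ⟨fun h => hS b h a (R.mem_symm hb), fun h => hS a h b hb⟩
  simp only [ind_coeff, this]

theorem inv_one : R.Inv 1 := by
  intro a b hb
  have : b = 1 ↔ a = 1 := by
    constructor
    · rintro rfl
      have := R.mem_symm hb
      rwa [R.one, Finset.mem_singleton] at this
    · rintro rfl
      rwa [R.one, Finset.mem_singleton] at hb
  simp only [coeff_one', this]

theorem inv_pow {f : El m} (hf : R.Inv f) (n : ℕ) : R.Inv (f ^ n) := by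
  induction n with
  | zero => rw [pow_zero]; exact R.inv_one
  | succ n ih => rw [pow_succ]; exact R.mul _ _ ih hf

theorem inv_add {f g : El m} (hf : R.Inv f) (hg : R.Inv g) : R.Inv (f + g) := by
  intro a b hb; simp [hf a b hb, hg a b hb]

theorem inv_sub {f g : El m} (hf : R.Inv f) (hg : R.Inv g) : R.Inv (f - g) := by
  intro a b hb; simp [hf a b hb, hg a b hb]

/-- The subgroup generated by a union of classes is a union of classes. -/
theorem closure_union (S : Finset (DihedralGroup m)) (hS : ∀ x ∈ S, ∀ y ∈ R.T x, y ∈ S) :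
    ∀ x ∈ Subgroup.closure (S : Set (DihedralGroup m)), ∀ y ∈ R.T x,
      y ∈ Subgroup.closure (S : Set (DihedralGroup m)) := by
  classical
  set F := ind S with hF
  have hnn : ∀ n z, 0 ≤ (F ^ n).coeff z := by
    intro n
    induction n with
    | zero => intro z; rw [pow_zero, coeff_one']; split_ifs <;> norm_num
    | succ n ih =>
      intro z
      rw [pow_succ, coeff_mul']
      exact Finset.sum_nonneg fun a _ => mul_nonneg (ih a) (by rw [hF, ind_coeff]; split_ifs <;> norm_num)
  have hsupp : ∀ n z, (F ^ n).coeff z ≠ 0 → z ∈ Subgroup.closure (S : Set (DihedralGroup m)) := by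
    intro n
    induction n with
    | zero =>
      intro z hz
      rw [pow_zero, coeff_one'] at hz
      obtain rfl : z = 1 := by by_contra h; exact hz (if_neg h)
      exact one_mem _
    | succ n ih =>
      intro z hz
      rw [pow_succ, coeff_mul'] at hz
      obtain ⟨a, -, ha⟩ := Finset.exists_ne_zero_of_sum_ne_zero hz
      have h2 : a⁻¹ * z ∈ S := by
        by_contra h; exact (right_ne_zero_of_mul ha) (by rw [hF, ind_coeff, if_neg h])
      have := mul_mem (ih a (left_ne_zero_of_mul ha)) (Subgroup.subset_closure h2)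
      rwa [mul_inv_cancel_left] at this
  let P : Submonoid (DihedralGroup m) :=
    { carrier := {z | ∃ n, 0 < (F ^ n).coeff z}
      one_mem' := ⟨0, by rw [pow_zero, coeff_one', if_pos rfl]; norm_num⟩
      mul_mem' := by
        rintro a b ⟨n, hn⟩ ⟨l, hl⟩
        refine ⟨n + l, ?_⟩
        rw [pow_add, coeff_mul']
        refine lt_of_lt_of_le (mul_pos hn hl) ?_
        have := Finset.single_le_sum (f := fun c => (F ^ n).coeff c * (F ^ l).coeff (c⁻¹ * (a * b)))
          (fun c _ => mul_nonneg (hnn n c) (hnn l _)) (Finset.mem_univ a)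
        simpa using this }
  have hSP : ∀ z ∈ Subgroup.closure (S : Set (DihedralGroup m)), z ∈ P := by
    intro z hz
    induction hz using Subgroup.closure_induction with
    | mem z hz => exact ⟨1, by rw [pow_one, hF, ind_coeff, if_pos (Finset.mem_coe.mp hz)]; norm_num⟩
    | one => exact P.one_mem
    | mul a b _ _ ha hb => exact P.mul_mem ha hb
    | inv a _ ha =>
      have h1 : a⁻¹ = a ^ (orderOf a - 1) := by
        refine inv_eq_of_mul_eq_one_left ?_
        rw [← pow_succ, Nat.sub_add_cancel (orderOf_pos a), pow_orderOf_eq_one]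
      rw [h1]
      exact P.pow_mem ha _
  intro x hx y hy
  obtain ⟨n, hn⟩ := hSP x hx
  refine hsupp n y ?_
  rw [R.inv_pow (R.inv_ind_union S hS) n x y hy]
  exact hn.ne'

/-- A nonempty union of classes other than `{1}` lies in no proper subgroup. -/
theorem eq_one_of_subset (S : Finset (DihedralGroup m)) (hS : ∀ x ∈ S, ∀ y ∈ R.T x, y ∈ S)
    {K : Subgroup (DihedralGroup m)} (hK : K ≠ ⊤) (hSK : ∀ x ∈ S, x ∈ K) :
    ∀ x ∈ S, x = 1 := by
  intro x hx
  rcases R.prim _ (R.closure_union S hS) with h | h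
  · exact Subgroup.mem_bot.mp (h ▸ Subgroup.subset_closure hx)
  · exact absurd (top_le_iff.mp (h ▸ (Subgroup.closure_le K).mpr hSK)) hK

theorem exists_not_mem {x : DihedralGroup m} (hx : x ≠ 1) {K : Subgroup (DihedralGroup m)}
    (hK : K ≠ ⊤) : ∃ y ∈ R.T x, y ∉ K := by
  by_contra h
  push Not at h
  exact hx (R.eq_one_of_subset (R.T x) (fun a ha b hb => R.eq x a ha ▸ hb) hK h x (R.self x))

theorem symm (x : DihedralGroup m) : R.T x⁻¹ = R.T x := by
  rcases eq_or_ne x 1 with rfl | hx
  · rw [_root_.inv_one]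
  obtain ⟨y, hy, hyK⟩ := R.exists_not_mem hx rotSubgroup_ne_top
  rcases y with i | i
  · exact absurd ⟨i, rfl⟩ hyK
  · have h1 := R.inv x _ hy
    rw [inv_sr] at h1
    rw [← R.eq _ _ h1, R.eq _ _ hy]

theorem coeff_inv {f : El m} (hf : R.Inv f) (x : DihedralGroup m) : f.coeff x⁻¹ = f.coeff x :=
  hf x _ (R.symm x ▸ R.self x⁻¹)

theorem coeff_neg {f : El m} (hf : R.Inv f) (i : ZMod m) : f.coeff (r (-i)) = f.coeff (r i) := by
  rw [← inv_r, R.coeff_inv hf]

theorem rev_rp {f : El m} (hf : R.Inv f) : rev (rp f) = rp f :=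
  Sc.ext' fun i => by rw [rev_coeff, rp_coeff, rp_coeff, R.coeff_neg hf]

theorem exists_rot {x : DihedralGroup m} (hx : x ≠ 1) : ∃ i, i ≠ 0 ∧ r i ∈ R.T x := by
  by_contra hcon
  push Not at hcon
  have hall : ∀ y ∈ R.T x, ∃ i, y = sr i := by
    intro y hy
    rcases y with i | i
    · rcases eq_or_ne i 0 with rfl | hi
      · exact absurd hy (r_zero (n := m) ▸ R.one_not_mem hx)
      · exact absurd hy (hcon i hi)
    · exact ⟨i, rfl⟩
  let S : Finset (DihedralGroup m) :=
    Finset.univ.filter fun z => (ind (R.T x) * ind (R.T x)).coeff z ≠ 0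
  have hS : ∀ z ∈ S, ∀ y ∈ R.T z, y ∈ S := by
    intro z hz y hy
    simp only [S, Finset.mem_filter, Finset.mem_univ, true_and] at hz ⊢
    rwa [R.mul _ _ (R.inv_ind x) (R.inv_ind x) z y hy]
  have hSrot : ∀ z ∈ S, z ∈ rotSubgroup m := by
    intro z hz
    simp only [S, Finset.mem_filter, Finset.mem_univ, true_and, coeff_mul'] at hz
    obtain ⟨a, -, ha⟩ := Finset.exists_ne_zero_of_sum_ne_zero hz
    simp only [ind_coeff, ne_eq, mul_eq_zero, ite_eq_right_iff, one_ne_zero, imp_false, not_or,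
      not_not] at ha
    obtain ⟨i, rfl⟩ := hall a ha.1
    obtain ⟨j, hj⟩ := hall _ ha.2
    rw [inv_mul_eq_iff_eq_mul] at hj
    exact ⟨j - i, by rw [hj, sr_mul_sr]⟩
  have hsub := R.eq_one_of_subset S hS rotSubgroup_ne_top hSrot
  obtain ⟨s, rfl⟩ := hall x (R.self x)
  have huniq : ∀ y ∈ R.T (sr s), y = sr s := by
    intro y hy
    obtain ⟨j, rfl⟩ := hall y hy
    have hmem : sr s * sr j ∈ S := by
      simp only [S, Finset.mem_filter, Finset.mem_univ, true_and, coeff_mul']
      refine (lt_of_lt_of_le (show (0 : ℤ) < 1 by norm_num) ?_).ne'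
      refine le_trans ?_ (Finset.single_le_sum (fun a _ => ?_) (Finset.mem_univ (sr s)))
      · have hj' : (sr s)⁻¹ * (sr s * sr j) ∈ R.T (sr s) := by rwa [inv_mul_cancel_left]
        simp [ind_coeff, R.self, hy]
      · simp only [ind_coeff]
        split_ifs <;> norm_num
    have := hsub _ hmem
    rw [sr_mul_sr, ← r_zero, r.injEq, sub_eq_zero] at this
    rw [this]
  let K : Subgroup (DihedralGroup m) :=
    { carrier := {1, sr s}
      one_mem' := Or.inl rfl
      mul_mem' := by rintro a b (rfl | rfl) (rfl | rfl) <;> simp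
      inv_mem' := by rintro a (rfl | rfl) <;> simp }
  have hK : K ≠ ⊤ := by
    intro h
    have : (r 1 : DihedralGroup m) ∈ K := h ▸ Subgroup.mem_top _
    rcases this with h1 | h1
    · rw [← r_zero, r.injEq] at h1
      have : Fact (1 < m) := ⟨R.two_le⟩
      exact one_ne_zero h1
    · cases h1
  exact hx (R.eq_one_of_subset _ (fun a ha b hb => R.eq _ a ha ▸ hb) hK
    (fun a ha => Or.inr (huniq a ha)) _ (R.self _))

theorem exists_rot' (x : DihedralGroup m) : ∃ i, r i ∈ R.T x := by
  rcases eq_or_ne x 1 with rfl | hx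
  · exact ⟨0, by rw [r_zero]; exact R.self 1⟩
  · obtain ⟨i, -, hi⟩ := R.exists_rot hx
    exact ⟨i, hi⟩

theorem dvd_of_rot {f : El m} (hf : R.Inv f) {n : ℤ} (h : ∀ i, n ∣ f.coeff (r i)) :
    (n : El m) ∣ f := by
  rw [dvd_iff_coeff]
  intro x
  obtain ⟨i, hi⟩ := R.exists_rot' x
  rw [← hf x _ hi]
  exact h i

theorem ext_rot {f g : El m} (hf : R.Inv f) (hg : R.Inv g)
    (h : ∀ i, f.coeff (r i) = g.coeff (r i)) : f = g := by
  refine MonoidAlgebra.ext (Finsupp.ext fun x => ?_)
  obtain ⟨i, hi⟩ := R.exists_rot' x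
  rw [← hf x _ hi, ← hg x _ hi, h i]

theorem mul_comm {f g : El m} (hf : R.Inv f) (hg : R.Inv g) : f * g = g * f := by
  refine R.ext_rot (R.mul _ _ hf hg) (R.mul _ _ hg hf) fun i => ?_
  rw [← R.coeff_inv (R.mul _ _ hf hg) (r i), coeff_mul', coeff_mul']
  refine Fintype.sum_equiv (Equiv.mulLeft (r i)) _ _ fun a => ?_
  rw [Equiv.coe_mulLeft, ← R.coeff_inv hf a, _root_.mul_comm]
  congr 1
  · rw [← R.coeff_inv hg, mul_inv_rev, inv_inv, inv_inv]
  · rw [mul_inv_rev, mul_assoc, inv_mul_cancel, mul_one]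

end SR

end Cfsg.Lib.DihedralB
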