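import Cfsg.Agent.DihedralBGroup.Periodic

/-!
The counting identities for a periodic class whose square is constant off `1`, and the
contradiction for an odd prime.
-/

set_option autoImplicit false
set_option linter.unusedSectionVars false

namespace Cfsg.Lib.DihedralB

open DihedralGroup Finset

variable {m : ℕ} [NeZero m]

/-- The data of a periodic class with constant square: indicators of its two parts. -/
structure Periodic2 (m : ℕ) [NeZero m] (q : ℕ) where
  A : ZMod m → ℤ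
  B : ZMod m → ℤ
  μ : ℤ
  A01 : ∀ i, A i = 0 ∨ A i = 1
  B01 : ∀ i, B i = 0 ∨ B i = 1
  A_zero : A 0 = 0
  A_neg : ∀ i, A (-i) = A i
  A_per : ∀ i h, q • h = 0 → A (i + h) = A i
  A_unit : ∀ (u : (ZMod m)ˣ) (i : ZMod m), A ((u : ZMod m) * i) = A i
  A_ord : ∀ i j : ZMod m, addOrderOf i = addOrderOf j → A i = A j
  A_pos : 0 < ∑ i, A i
  B_pos : 0 < ∑ i, B i
  sq_rot : ∀ j, j ≠ 0 → (∑ i, A i * A (j - i)) + ∑ i, B i * B (i + j) = μ
  sq_ref : ∀ j, (∑ i, A i * B (j + i)) + ∑ i, B i * A (j - i) = μ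

namespace Periodic2

variable {q : ℕ} (D : Periodic2 m q)

/-- The number of rotations. -/
def a : ℤ := ∑ i, D.A i

/-- The number of reflections. -/
def b : ℤ := ∑ i, D.B i

theorem A_mul_self (i : ZMod m) : D.A i * D.A i = D.A i := by
  rcases D.A01 i with h | h <;> simp [h]

theorem B_mul_self (i : ZMod m) : D.B i * D.B i = D.B i := by
  rcases D.B01 i with h | h <;> simp [h]

theorem mul_eq : 2 * (D.a * D.b) = D.μ * m := by
  have e1 : ∑ j, ((∑ i, D.A i * D.B (j + i)) + ∑ i, D.B i * D.A (j - i)) = D.μ * m := by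
    rw [Finset.sum_congr rfl fun j _ => D.sq_ref j, Finset.sum_const, Finset.card_univ, ZMod.card,
      nsmul_eq_mul, mul_comm]
  have e2 : ∑ j, ∑ i, D.A i * D.B (j + i) = D.a * D.b := by
    rw [Finset.sum_comm, a, Finset.sum_mul]
    refine Finset.sum_congr rfl fun i _ => ?_
    rw [← Finset.mul_sum, b]
    congr 1
    exact Fintype.sum_equiv (Equiv.addRight i) _ _ fun _ => rfl
  have e3 : ∑ j, ∑ i, D.B i * D.A (j - i) = D.b * D.a := by
    rw [Finset.sum_comm, b, Finset.sum_mul]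
    refine Finset.sum_congr rfl fun i _ => ?_
    rw [← Finset.mul_sum, a]
    congr 1
    exact Fintype.sum_equiv (Equiv.subRight i) _ _ fun _ => rfl
  rw [Finset.sum_add_distrib, e2, e3] at e1
  linarith

theorem sq_eq : (D.a + D.b) ^ 2 = (D.a + D.b) + D.μ * (2 * m - 1) := by
  have e1 : ∑ j, ∑ i, D.A i * D.A (j - i) = D.a * D.a := by
    rw [Finset.sum_comm, a, Finset.sum_mul]
    refine Finset.sum_congr rfl fun i _ => ?_
    rw [← Finset.mul_sum]
    congr 1
    exact Fintype.sum_equiv (Equiv.subRight i) _ _ fun _ => rfl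
  have e2 : ∑ j, ∑ i, D.B i * D.B (i + j) = D.b * D.b := by
    rw [Finset.sum_comm, b, Finset.sum_mul]
    refine Finset.sum_congr rfl fun i _ => ?_
    rw [← Finset.mul_sum]
    congr 1
    exact Fintype.sum_equiv (Equiv.addLeft i) _ _ fun _ => rfl
  have e3 : ∑ j, ((∑ i, D.A i * D.A (j - i)) + ∑ i, D.B i * D.B (i + j)) =
      (D.a + D.b) + D.μ * (m - 1) := by
    rw [← Finset.add_sum_erase _ _ (Finset.mem_univ (0 : ZMod m)),
      Finset.sum_congr rfl fun j hj => D.sq_rot j (Finset.ne_of_mem_erase hj), Finset.sum_const,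
      Finset.card_erase_of_mem (Finset.mem_univ _), Finset.card_univ, ZMod.card, nsmul_eq_mul,
      Nat.cast_sub (NeZero.pos m : 1 ≤ m)]
    simp only [zero_sub, D.A_neg, D.A_mul_self, add_zero, D.B_mul_self, a, b, Nat.cast_one]
    ring
  rw [Finset.sum_add_distrib, e1, e2] at e3
  linear_combination e3 + D.mul_eq

theorem diff_eq : (m : ℤ) * (D.a - D.b) ^ 2 = m * (D.a + D.b) - 2 * (D.a * D.b) := by
  linear_combination (m : ℤ) * D.sq_eq - (2 * (m : ℤ) - 1) * D.mul_eq

theorem a_lt : D.a < m := by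
  have : D.a ≤ ∑ i ∈ Finset.univ.erase (0 : ZMod m), (1 : ℤ) := by
    rw [a, ← Finset.add_sum_erase _ _ (Finset.mem_univ (0 : ZMod m)), D.A_zero, zero_add]
    exact Finset.sum_le_sum fun i _ => by rcases D.A01 i with h | h <;> simp [h]
  simp only [Finset.sum_const, Finset.card_erase_of_mem (Finset.mem_univ _), Finset.card_univ,
    ZMod.card, nsmul_one] at this
  have hm : 0 < m := NeZero.pos m
  omega

theorem corr (h : ZMod m) (hh : q • h = 0) (h0 : h ≠ 0) :
    ∑ i, D.B i * D.B (i + h) = D.μ - D.a := by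
  have := D.sq_rot h h0
  have e : ∑ i, D.A i * D.A (h - i) = D.a := by
    refine Finset.sum_congr rfl fun i _ => ?_
    rw [← D.A_neg (h - i), neg_sub, sub_eq_add_neg, D.A_per i (-h) (by rw [smul_neg, hh, neg_zero]),
      D.A_mul_self]
  linarith

/-- The inequality from the cosets of the rotations of order `q`. -/
theorem coset_le (hq : q.Prime) (hqm : q ∣ m) :
    (q : ℤ) * D.b ^ 2 ≤ m * (D.b + (q - 1) * (D.μ - D.a)) := by
  classical
  set K := Finset.univ.filter fun h : ZMod m => q • h = 0 with hK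
  have hcard : (K.card : ℤ) = q := by rw [hK, card_torsion hq hqm]
  have hS : ∑ h ∈ K, ∑ i, D.B i * D.B (i + h) = D.b + (q - 1) * (D.μ - D.a) := by
    have h0 : (0 : ZMod m) ∈ K := by simp [hK]
    rw [← Finset.add_sum_erase _ _ h0]
    congr 1
    · simp [D.B_mul_self, b]
    · rw [Finset.sum_congr rfl fun h hh => D.corr h
        (Finset.mem_filter.mp (Finset.mem_of_mem_erase hh)).2 (Finset.ne_of_mem_erase hh),
        Finset.sum_const, Finset.card_erase_of_mem h0, nsmul_eq_mul,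
        Nat.cast_sub (Finset.card_pos.mpr ⟨0, h0⟩ : 1 ≤ K.card), hcard, Nat.cast_one]
  set H : ZMod m → ℤ := fun i => ∑ h ∈ K, D.B (i + h)
  have hH1 : ∑ i, H i = q * D.b := by
    simp only [H]
    rw [Finset.sum_comm, Finset.sum_congr rfl (g := fun _ => D.b) fun h _ => ?_, Finset.sum_const,
      nsmul_eq_mul, hcard]
    exact Fintype.sum_equiv (Equiv.addRight h) _ _ fun _ => rfl
  have hH2 : ∑ i, H i ^ 2 = q * ∑ h ∈ K, ∑ i, D.B i * D.B (i + h) := by
    simp only [H, sq, Finset.sum_mul_sum]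
    rw [Finset.sum_comm]
    rw [Finset.sum_congr rfl (g := fun _ => ∑ h ∈ K, ∑ i, D.B i * D.B (i + h)) fun h hh => ?_,
      Finset.sum_const, nsmul_eq_mul, hcard]
    rw [Finset.sum_comm]
    refine Finset.sum_equiv (Equiv.subRight h) (fun h' => ?_) (fun h' _ => ?_)
    · simp only [hK, Finset.mem_filter, Finset.mem_univ, true_and, Equiv.subRight_apply, smul_sub,
        (Finset.mem_filter.mp hh).2, sub_zero]
    · refine Fintype.sum_equiv (Equiv.addRight h) _ _ fun i => ?_
      simp only [Equiv.coe_addRight, Equiv.subRight_apply]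
      congr 2; ring
  have hcs := sq_sum_le_card_mul_sum_sq (s := (Finset.univ : Finset (ZMod m))) (f := H)
  rw [Finset.card_univ, ZMod.card, hH1, hH2, hS] at hcs
  have hq0 : (0 : ℤ) < q := by exact_mod_cast hq.pos
  nlinarith

theorem dvd_a (hq : q.Prime) (hqm : q ∣ m) : (q : ℤ) ∣ D.a := by
  classical
  rw [a, ← Finset.sum_fiberwise Finset.univ (fun i : ZMod m => q • i) D.A]
  refine Finset.dvd_sum fun j _ => ?_
  by_cases h : ∃ t, q • t = j
  · obtain ⟨t, rfl⟩ := h
    rw [Finset.sum_congr rfl (g := fun _ => D.A t) fun i hi => ?_, Finset.sum_const,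
      card_fibre hq hqm t, nsmul_eq_mul]
    · exact dvd_mul_right _ _
    · have hi' : q • i = q • t := (Finset.mem_filter.mp hi).2
      have := D.A_per t (i - t) (by rw [smul_sub, hi', sub_self])
      rwa [add_sub_cancel] at this
  · rw [Finset.sum_eq_zero fun i hi => absurd ⟨i, (Finset.mem_filter.mp hi).2⟩ h]
    exact dvd_zero _

/-- There is no such class for an odd prime. -/
theorem false_of_odd (hq : q.Prime) (h2 : q ≠ 2) (hqm : q ∣ m) (hab : (q : ℤ) ∣ D.a + D.b) :
    False := by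
  have hqa := D.dvd_a hq hqm
  have hle := D.coset_le hq hqm
  have hmu := D.mul_eq
  have hd := D.diff_eq
  have ha : 0 < D.a := D.A_pos
  have hb : 0 < D.b := D.B_pos
  have hbm : D.b ≤ m := by
    have : D.b ≤ ∑ _i : ZMod m, (1 : ℤ) :=
      Finset.sum_le_sum fun i _ => by rcases D.B01 i with h | h <;> simp [h]
    simpa using this
  have ham := D.a_lt
  have hq3 : (3 : ℤ) ≤ q := by have := hq.two_le; omega
  have hqb : (q : ℤ) ∣ D.b := by simpa using dvd_sub hab hqa
  have hqm' : (q : ℤ) ∣ (m : ℤ) := Int.natCast_dvd_natCast.mpr hqm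
  generalize D.a = a at *
  generalize D.b = b at *
  generalize D.μ = μ at *
  generalize (m : ℤ) = M at *
  generalize (q : ℤ) = Q at *
  obtain ⟨d, rfl⟩ : ∃ d, a = b + d := ⟨a - b, by ring⟩
  simp only [add_sub_cancel_left] at hd
  set A := b * (M - b) with hA
  set E := d * (M - 2 * b) with hE
  have h1 : M * d ^ 2 = 2 * A + E := by rw [hA, hE]; linear_combination hd
  have h3 : (Q - 1) * E ≤ -((Q - 2) * A) := by
    rw [hA, hE]
    nlinarith [hle, hmu]
  have hA0 : 0 ≤ A := by rw [hA]; exact mul_nonneg hb.le (by linarith)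
  rcases eq_or_lt_of_le hbm with rfl | hlt
  · have hd0 : d < 0 := by linarith
    have : E ≤ 0 := by
      have : A = 0 := by rw [hA]; ring
      rw [this] at h3; nlinarith
    rw [hE] at this
    nlinarith
  have hApos : 0 < A := by rw [hA]; exact mul_pos hb (by linarith)
  have hEneg : E < 0 := by nlinarith
  have hd0 : d ≠ 0 := by rintro rfl; rw [hE, zero_mul] at hEneg; exact lt_irrefl _ hEneg
  have h4 : (Q - 1) * M * d ^ 2 ≤ Q * A := by nlinarith
  have ht : (M - 2 * b) ^ 2 < M ^ 2 := by nlinarith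
  have h5 : (Q - 2) ^ 2 * A ^ 2 ≤ (Q - 1) ^ 2 * E ^ 2 := by
    have : 0 ≤ (Q - 2) * A := mul_nonneg (by linarith) hA0
    have h6 := pow_le_pow_left₀ this (show (Q - 2) * A ≤ -((Q - 1) * E) by linarith) 2
    linarith [h6, mul_pow (Q - 2) A 2, neg_sq ((Q - 1) * E), mul_pow (Q - 1) E 2]
  have hd2 : 0 < d ^ 2 := by positivity
  have h6 : E ^ 2 < d ^ 2 * M ^ 2 := by rw [hE, mul_pow]; exact mul_lt_mul_of_pos_left ht hd2
  have hM : 0 < M := by linarith
  have h7 : (Q - 2) ^ 2 * A ^ 2 < (Q - 1) * M * (Q * A) := by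
    calc (Q - 2) ^ 2 * A ^ 2 ≤ (Q - 1) ^ 2 * E ^ 2 := h5
      _ < (Q - 1) ^ 2 * (d ^ 2 * M ^ 2) := mul_lt_mul_of_pos_left h6 (by nlinarith)
      _ = (Q - 1) * M * ((Q - 1) * M * d ^ 2) := by ring
      _ ≤ (Q - 1) * M * (Q * A) := mul_le_mul_of_nonneg_left h4 (mul_nonneg (by linarith) hM.le)
  have h8 : (Q - 2) ^ 2 * A < (Q - 1) * M * Q := by
    refine lt_of_mul_lt_mul_right ?_ hA0
    linarith [h7]
  have hdQ : Q ^ 2 ≤ d ^ 2 := by
    obtain ⟨c, rfl⟩ : Q ∣ d := by simpa using dvd_sub hqa hqb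
    have hc : c ≠ 0 := right_ne_zero_of_mul hd0
    have : 1 ≤ c ^ 2 := by nlinarith [Int.one_le_abs hc, sq_abs c]
    nlinarith
  have h9 : (Q - 1) * M * Q ≤ A := by
    refine le_of_mul_le_mul_left ?_ (show (0 : ℤ) < Q by linarith)
    calc Q * ((Q - 1) * M * Q) = (Q - 1) * M * Q ^ 2 := by ring
      _ ≤ (Q - 1) * M * d ^ 2 := mul_le_mul_of_nonneg_left hdQ (mul_nonneg (by linarith) hM.le)
      _ ≤ Q * A := h4
  have h10 : (1 : ℤ) ≤ (Q - 2) ^ 2 := by nlinarith
  nlinarith

end Periodic2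

end Cfsg.Lib.DihedralB
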