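import Cfsg.Agent.DihedralBGroup.Galois

/-!
For an odd prime `q` dividing `m`, every class of a primitive Schur ring over the dihedral group
contains a `q`-singular rotation: the classes without one span a subring, by lifting Frobenius
through all powers of `q`.
-/

set_option autoImplicit false
set_option linter.unusedSectionVars false

namespace Cfsg.Lib.DihedralB

open DihedralGroup Finset

variable {m : ℕ} [NeZero m]

namespace SR

variable (R : SR m)

/-- The ring elements whose rotation part lives on a subgroup. -/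
def VanishOff (P : AddSubgroup (ZMod m)) (f : El m) : Prop :=
  R.Inv f ∧ ∀ j, j ∉ P → f.coeff (r j) = 0

theorem decompose {q : ℕ} (hq : q.Prime) (h2 : q ≠ 2) {P : AddSubgroup (ZMod m)} {a : ℕ}
    (hP : ∀ i, q ^ a • i ∈ P) (ha : 1 ≤ a) {L d : ℕ} (hd : d + a ≤ L + 1)
    (hfix : ∀ i ∈ P, q ^ L • i = i) {f : El m} (hf : R.VanishOff P f) :
    ∃ F f₁, R.VanishOff P F ∧ R.VanishOff P f₁ ∧ f = F + (q : ℤ) • f₁ ∧
      (((q : ℤ) ^ d : ℤ) : El m) ∣ f ^ q ^ L - F := by
  classical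
  set G := f ^ q ^ L with hG
  have hGinv : R.Inv G := R.inv_pow hf.1 _
  let F : El m := mkEl fun x => if ∃ j, j ∉ P ∧ r j ∈ R.T x then 0 else G.coeff x
  have hFinv : R.Inv F := by
    intro x y hy
    simp only [F, mkEl_coeff, R.eq x y hy, hGinv x y hy]
  have hF : R.VanishOff P F := ⟨hFinv, fun j hj => by
    simp only [F, mkEl_coeff]; exact if_pos ⟨j, hj, R.self _⟩⟩
  have hGF : (((q : ℤ) ^ d : ℤ) : El m) ∣ G - F := by
    refine R.dvd_of_rot (R.inv_sub hGinv hFinv) fun j => ?_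
    rw [MonoidAlgebra.coeff_sub, Finsupp.sub_apply]
    simp only [F, mkEl_coeff]
    split_ifs with h
    · obtain ⟨t, ht, htj⟩ := h
      rw [sub_zero, ← hGinv _ _ htj]
      exact (pow_dvd_pow (q : ℤ) (by omega)).trans
        (rp_pow_suppMod hq h2 f (R.rev_rp hf.1) hP ha L t ht)
    · simp
  have hfF : ((q : ℤ) : El m) ∣ f - F := by
    refine R.dvd_of_rot (R.inv_sub hf.1 hFinv) fun j => ?_
    rw [MonoidAlgebra.coeff_sub, Finsupp.sub_apply]
    by_cases hj : j ∈ P
    · have h1 := rp_pow_push hq h2 f (R.rev_rp hf.1) L j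
      rw [Finset.sum_eq_single_of_mem j (Finset.mem_filter.mpr ⟨Finset.mem_univ _, hfix j hj⟩ :
        j ∈ Finset.univ.filter fun i => q ^ L • i = j)
        (fun b hb hbj => hf.2 b fun hbP => hbj (by rw [← hfix b hbP]; exact (Finset.mem_filter.mp hb).2))]
        at h1
      rw [← hG] at h1
      simp only [F, mkEl_coeff]
      split_ifs with h
      · obtain ⟨t, ht, htj⟩ := h
        rw [sub_zero, ← hf.1 _ _ htj, hf.2 t ht]
        exact dvd_zero _
      · exact (dvd_sub_comm).mp h1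
    · rw [hf.2 j hj, hF.2 j hj, sub_zero]
      exact dvd_zero _
  obtain ⟨z, hz⟩ := hfF
  rw [← zsmul_eq_mul] at hz
  have hzx : ∀ x, f.coeff x - F.coeff x = (q : ℤ) * z.coeff x := fun x => by
    have := congrArg (fun e : El m => e.coeff x) hz
    simp only [MonoidAlgebra.coeff_sub, Finsupp.sub_apply, MonoidAlgebra.coeff_smul, Finsupp.smul_apply,
      smul_eq_mul] at this
    exact this
  have hq0 : (q : ℤ) ≠ 0 := by exact_mod_cast hq.ne_zero
  refine ⟨F, z, hF, ⟨fun x y hy => ?_, fun j hj => ?_⟩, ?_, hGF⟩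
  · refine mul_left_cancel₀ hq0 ?_
    rw [← hzx, ← hzx, hf.1 x y hy, hFinv x y hy]
  · refine mul_left_cancel₀ hq0 ?_
    rw [← hzx, hf.2 j hj, hF.2 j hj, sub_zero, mul_zero]
  · rw [← hz]; abel

theorem mul_dvd_off {q : ℕ} (hq : q.Prime) (h2 : q ≠ 2) {P : AddSubgroup (ZMod m)} {a : ℕ}
    (hP : ∀ i, q ^ a • i ∈ P) (ha : 1 ≤ a)
    (hfix : ∀ N, ∃ L, N ≤ L ∧ ∀ i ∈ P, q ^ L • i = i) (k : ℕ) :
    ∀ f g, R.VanishOff P f → R.VanishOff P g → ∀ j, j ∉ P →
      (q : ℤ) ^ k ∣ (f * g).coeff (r j) := by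
  induction k with
  | zero => intros; simp
  | succ k ih =>
    intro f g hf hg j hj
    obtain ⟨L, hL, hLfix⟩ := hfix (k + 1 + a)
    obtain ⟨F, f₁, hF, hf₁, hfe, hfd⟩ := R.decompose hq h2 hP ha (d := k + 1) (by omega) hLfix hf
    obtain ⟨G, g₁, hG, hg₁, hge, hgd⟩ := R.decompose hq h2 hP ha (d := k + 1) (by omega) hLfix hg
    have e1 : f * g = F * G + (q : ℤ) • (f₁ * G) + (q : ℤ) • (F * g₁) +
        ((q : ℤ) * q) • (f₁ * g₁) := by
      rw [hfe, hge]
      simp only [add_mul, mul_add, smul_mul_assoc, mul_smul_comm, smul_add, smul_smul]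
      abel
    have e2 : (q : ℤ) ^ (k + 1) ∣ (F * G).coeff (r j) := by
      have h1 : (((q : ℤ) ^ (k + 1) : ℤ) : El m) ∣ f ^ q ^ L * g ^ q ^ L - F * G := by
        have : f ^ q ^ L * g ^ q ^ L - F * G =
            (f ^ q ^ L - F) * g ^ q ^ L + F * (g ^ q ^ L - G) := by noncomm_ring
        rw [this]
        exact dvd_add (dvd_mul_of_dvd_left hfd _) (El.dvd_mul_right' _ hgd)
      rw [← (show Commute f g from R.mul_comm hf.1 hg.1).mul_pow, dvd_iff_coeff] at h1
      have h1' := h1 (r j)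
      have h2' := (pow_dvd_pow (q : ℤ) (show k + 1 ≤ L + 1 - a by omega)).trans
        (rp_pow_suppMod hq h2 (f * g) (R.rev_rp (R.mul _ _ hf.1 hg.1)) hP ha L j hj)
      rw [MonoidAlgebra.coeff_sub, Finsupp.sub_apply] at h1'
      rw [rp_coeff] at h2'
      exact (dvd_sub_right h2').mp h1'
    rw [e1]
    simp only [MonoidAlgebra.coeff_add, Finsupp.add_apply, MonoidAlgebra.coeff_smul,
      Finsupp.smul_apply, smul_eq_mul]
    refine dvd_add (dvd_add (dvd_add e2 ?_) ?_) ?_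
    · rw [pow_succ']; exact mul_dvd_mul_left _ (ih _ _ hf₁ hG j hj)
    · rw [pow_succ']; exact mul_dvd_mul_left _ (ih _ _ hF hg₁ j hj)
    · rw [pow_succ', mul_assoc]
      exact mul_dvd_mul_left _ (dvd_mul_of_dvd_right (ih _ _ hf₁ hg₁ j hj) _)

/-- Every nontrivial class contains a rotation outside the `q`-regular ones. -/
theorem exists_nonreg {q : ℕ} (hq : q.Prime) (h2 : q ≠ 2) (hqm : q ∣ m) {x : DihedralGroup m}
    (hx : x ≠ 1) : ∃ j, r j ∈ R.T x ∧ q ∣ addOrderOf j := by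
  classical
  obtain ⟨a, m', hm', hm⟩ := Nat.exists_eq_pow_mul_and_not_dvd (NeZero.ne m) q hq.ne_one
  have ha : 1 ≤ a := by
    rcases Nat.eq_zero_or_pos a with rfl | h
    · rw [pow_zero, one_mul] at hm; exact absurd (hm ▸ hqm) hm'
    · exact h
  have hm'0 : 0 < m' := Nat.pos_of_ne_zero fun h => hm' (h ▸ dvd_zero q)
  set P : AddSubgroup (ZMod m) := (nsmulAddMonoidHom m').ker with hPdef
  have hmem : ∀ i, i ∈ P ↔ m' • i = 0 := fun i => AddMonoidHom.mem_ker
  have hP : ∀ i, q ^ a • i ∈ P := fun i => by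
    rw [hmem, smul_smul, Nat.mul_comm, ← hm, nsmul_eq_mul, ZMod.natCast_self, zero_mul]
  have hcop : Nat.Coprime q m' := (Nat.Prime.coprime_iff_not_dvd hq).mpr hm'
  have hfix : ∀ N, ∃ L, N ≤ L ∧ ∀ i ∈ P, q ^ L • i = i := by
    intro N
    refine ⟨Nat.totient m' * N, Nat.le_mul_of_pos_left _ (Nat.totient_pos.mpr hm'0), fun i hi => ?_⟩
    have h1 : q ^ (Nat.totient m' * N) ≡ 1 [MOD m'] := by
      rw [pow_mul]; simpa using (Nat.ModEq.pow_totient hcop).pow N
    have h2 : q ^ (Nat.totient m' * N) • i = 1 • i :=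
      nsmul_eq_nsmul_iff_modEq.mpr
        (h1.of_dvd (addOrderOf_dvd_iff_nsmul_eq_zero.mpr ((hmem i).mp hi)))
    rwa [one_smul] at h2
  by_contra hcon
  push Not at hcon
  have hnon : ∀ j, j ∉ P → r j ∉ R.T x := by
    intro j hj hjx
    refine hj ((hmem j).mpr (addOrderOf_dvd_iff_nsmul_eq_zero.mp ?_))
    have h1 : addOrderOf j ∣ q ^ a * m' := hm ▸ addOrderOf_dvd_iff_nsmul_eq_zero.mpr
      (by rw [nsmul_eq_mul, ZMod.natCast_self, zero_mul])
    exact ((((Nat.Prime.coprime_iff_not_dvd hq).mpr (hcon j hjx)).symm).pow_right a).dvd_of_dvd_mul_left h1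
  let S : Finset (DihedralGroup m) :=
    Finset.univ.filter fun z => ∀ j, j ∉ P → r j ∉ R.T z
  have hS : ∀ z ∈ S, ∀ y ∈ R.T z, y ∈ S := by
    intro z hz y hy
    simp only [S, Finset.mem_filter, Finset.mem_univ, true_and, R.eq z y hy] at hz ⊢
    exact hz
  have hvan : R.VanishOff P (ind S) := ⟨R.inv_ind_union S hS, fun j hj => by
    rw [ind_coeff, if_neg]
    exact fun h => (Finset.mem_filter.mp h).2 j hj (R.self _)⟩
  have hmul : ∀ u ∈ S, ∀ v ∈ S, u * v ∈ S := by
    intro u hu v hv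
    by_contra h
    simp only [S, Finset.mem_filter, Finset.mem_univ, true_and] at h
    push Not at h
    obtain ⟨j, hj, hjT⟩ := h
    have h0 : (ind S * ind S).coeff (r j) = 0 := by
      refine Int.eq_zero_of_dvd_of_natAbs_lt_natAbs
        (R.mul_dvd_off hq h2 hP ha hfix ((ind S * ind S).coeff (r j)).natAbs _ _ hvan hvan j hj) ?_
      rw [Int.natAbs_pow, Int.natAbs_natCast]
      exact Nat.lt_pow_self hq.one_lt
    rw [R.mul _ _ hvan.1 hvan.1 _ _ hjT, coeff_mul'] at h0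
    have := (Finset.sum_eq_zero_iff_of_nonneg fun c _ => by
      simp only [ind_coeff]; split_ifs <;> norm_num).mp h0 u (Finset.mem_univ u)
    simp [hu, hv] at this
  have h1S : (1 : DihedralGroup m) ∈ S := by
    refine Finset.mem_filter.mpr ⟨Finset.mem_univ _, fun j hj h => hj ?_⟩
    rw [R.one, Finset.mem_singleton, ← r_zero, r.injEq] at h
    rw [h]; exact P.zero_mem
  let M : Submonoid (DihedralGroup m) :=
    { carrier := (S : Set (DihedralGroup m))
      one_mem' := h1S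
      mul_mem' := fun {u v} hu hv => hmul u hu v hv }
  let K : Subgroup (DihedralGroup m) :=
    { M with
      inv_mem' := fun {u} hu => by
        have h : u⁻¹ = u ^ (orderOf u - 1) := by
          refine inv_eq_of_mul_eq_one_left ?_
          rw [← pow_succ, Nat.sub_add_cancel (orderOf_pos u), pow_orderOf_eq_one]
        rw [h]; exact M.pow_mem hu _ }
  have hK : K ≠ ⊤ := by
    intro h
    have h1 : (r 1 : DihedralGroup m) ∈ S := (h ▸ Subgroup.mem_top _ : (r 1 : DihedralGroup m) ∈ K)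
    have h3 : (1 : ZMod m) ∈ P := by
      by_contra h4; exact (Finset.mem_filter.mp h1).2 1 h4 (R.self _)
    rw [hmem, nsmul_one, ZMod.natCast_eq_zero_iff, hm] at h3
    exact hm' ((hm ▸ hqm).trans h3)
  exact hx (R.eq_one_of_subset S hS hK (fun z hz => hz) x
    (Finset.mem_filter.mpr ⟨Finset.mem_univ _, hnon⟩))

end SR

end Cfsg.Lib.DihedralB
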