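import Cfsg.Agent.DihedralBGroup.Pow

/-!
The multipliers of a primitive Schur ring over a dihedral group are automorphisms; the fixed ring
is again a Schur ring, and if that has rank two then so has the original ring.
-/

set_option autoImplicit false
set_option linter.unusedSectionVars false

namespace Cfsg.Lib.DihedralB

open DihedralGroup Finset

variable {m : ℕ} [NeZero m]

theorem El.dvd_mul_right' {n : ℤ} {g : El m} (c : El m) (h : (n : El m) ∣ g) :
    (n : El m) ∣ c * g := by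
  obtain ⟨z, rfl⟩ := h
  exact ⟨c * z, by rw [← mul_assoc, ← (Int.cast_commute n c).eq, mul_assoc]⟩

theorem exists_prime_eq_unit (u : (ZMod m)ˣ) (N : ℕ) :
    ∃ p, N < p ∧ p.Prime ∧ p ≠ 2 ∧ (p : ZMod m) = u := by
  obtain ⟨p, hp, hprime, hpu⟩ :=
    Nat.forall_exists_prime_gt_and_eq_mod (q := m) u.isUnit (max N 2)
  exact ⟨p, by omega, hprime, by omega, hpu⟩

namespace SR

variable (R : SR m)

theorem pow_rot {p : ℕ} (hp : p.Prime) (h2 : p ≠ 2) {u : (ZMod m)ˣ} (hu : (p : ZMod m) = u)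
    {f : El m} (hf : R.Inv f) (j : ZMod m) :
    (p : ℤ) ∣ (f ^ p).coeff (r j) - f.coeff (r ((↑u⁻¹ : ZMod m) * j)) := by
  have h := rp_pow_push hp h2 f (R.rev_rp hf) 1 j
  rw [pow_one] at h
  have hs : (Finset.univ.filter fun i : ZMod m => p • i = j) = {(↑u⁻¹ : ZMod m) * j} := by
    ext i
    simp only [Finset.mem_filter, Finset.mem_univ, true_and, Finset.mem_singleton, nsmul_eq_mul, hu]
    constructor
    · rintro rfl; rw [← mul_assoc, u.inv_mul, one_mul]
    · rintro rfl; rw [← mul_assoc, u.mul_inv, one_mul]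
  rwa [hs, Finset.sum_singleton] at h

/-- Multipliers permute the classes on the rotations. -/
theorem unit_mem (u : (ZMod m)ˣ) {i j : ZMod m} (h : r j ∈ R.T (r i)) :
    r ((u : ZMod m) * j) ∈ R.T (r ((u : ZMod m) * i)) := by
  obtain ⟨p, -, hp, h2, hpu⟩ := exists_prime_eq_unit u⁻¹ 0
  set f := ind (R.T (r ((u : ZMod m) * i)))
  have hf : R.Inv f := R.inv_ind _
  have h1 := R.pow_rot hp h2 hpu hf i
  have h2' := R.pow_rot hp h2 hpu hf j
  rw [inv_inv] at h1 h2'
  rw [R.inv_pow hf p _ _ h] at h2'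
  have h3 := dvd_sub h2' h1
  rw [sub_sub_sub_cancel_left] at h3
  simp only [f, ind_coeff, R.self, if_true] at h3
  by_contra hcon
  rw [if_neg hcon, sub_zero] at h3
  exact hp.ne_one (Nat.dvd_one.mp (Int.natCast_dvd_natCast.mp h3))

/-- A rotation in the class of `x`. -/
noncomputable def rep (x : DihedralGroup m) : ZMod m := (R.exists_rot' x).choose

theorem rep_mem (x : DihedralGroup m) : r (R.rep x) ∈ R.T x := (R.exists_rot' x).choose_spec

/-- The action of a multiplier on the ring. -/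
noncomputable def gal (u : (ZMod m)ˣ) (f : El m) : El m :=
  mkEl fun x => f.coeff (r ((↑u⁻¹ : ZMod m) * R.rep x))

theorem gal_coeff (u : (ZMod m)ˣ) (f : El m) (x : DihedralGroup m) :
    (R.gal u f).coeff x = f.coeff (r ((↑u⁻¹ : ZMod m) * R.rep x)) := rfl

theorem rep_class {x y : DihedralGroup m} (h : y ∈ R.T x) : r (R.rep y) ∈ R.T (r (R.rep x)) := by
  rw [R.eq _ _ (R.rep_mem x), ← R.eq _ _ h]
  exact R.rep_mem y

theorem inv_gal (u : (ZMod m)ˣ) {f : El m} (hf : R.Inv f) : R.Inv (R.gal u f) := fun _ _ h =>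
  hf _ _ (R.unit_mem u⁻¹ (R.rep_class h))

theorem gal_rot (u : (ZMod m)ˣ) {f : El m} (hf : R.Inv f) (j : ZMod m) :
    (R.gal u f).coeff (r j) = f.coeff (r ((↑u⁻¹ : ZMod m) * j)) :=
  hf _ _ (R.unit_mem u⁻¹ (R.rep_mem (r j)))

theorem pow_dvd_gal {p : ℕ} (hp : p.Prime) (h2 : p ≠ 2) {u : (ZMod m)ˣ} (hu : (p : ZMod m) = u)
    {f : El m} (hf : R.Inv f) : ((p : ℤ) : El m) ∣ f ^ p - R.gal u f := by
  refine R.dvd_of_rot (R.inv_sub (R.inv_pow hf p) (R.inv_gal u hf)) fun j => ?_
  rw [MonoidAlgebra.coeff_sub, Finsupp.sub_apply, R.gal_rot u hf]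
  exact R.pow_rot hp h2 hu hf j

/-- The multipliers are automorphisms of the ring. -/
theorem gal_mul (u : (ZMod m)ˣ) {f g : El m} (hf : R.Inv f) (hg : R.Inv g) :
    R.gal u (f * g) = R.gal u f * R.gal u g := by
  refine R.ext_rot (R.inv_gal u (R.mul _ _ hf hg)) (R.mul _ _ (R.inv_gal u hf) (R.inv_gal u hg))
    fun i => ?_
  set d := (R.gal u (f * g)).coeff (r i) - (R.gal u f * R.gal u g).coeff (r i) with hd
  obtain ⟨p, hpd, hp, h2, hpu⟩ := exists_prime_eq_unit u d.natAbs
  have e1 := R.pow_dvd_gal hp h2 hpu (R.mul _ _ hf hg)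
  have e2 := R.pow_dvd_gal hp h2 hpu hf
  have e3 := R.pow_dvd_gal hp h2 hpu hg
  have hc : (f * g) ^ p = f ^ p * g ^ p := (show Commute f g from R.mul_comm hf hg).mul_pow p
  have e4 : ((p : ℤ) : El m) ∣ f ^ p * g ^ p - R.gal u f * R.gal u g := by
    have : f ^ p * g ^ p - R.gal u f * R.gal u g =
        (f ^ p - R.gal u f) * g ^ p + R.gal u f * (g ^ p - R.gal u g) := by noncomm_ring
    rw [this]
    exact dvd_add (dvd_mul_of_dvd_left e2 _) (El.dvd_mul_right' _ e3)
  rw [hc] at e1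
  have e5 := (dvd_iff_coeff _ _).mp e4 (r i)
  have e6 := (dvd_iff_coeff _ _).mp e1 (r i)
  rw [MonoidAlgebra.coeff_sub, Finsupp.sub_apply] at e5 e6
  have e7 : (p : ℤ) ∣ d := by
    have := dvd_sub e5 e6
    rwa [sub_sub_sub_cancel_left] at this
  have e8 : d = 0 := Int.eq_zero_of_dvd_of_natAbs_lt_natAbs e7 (by simpa using hpd)
  exact sub_eq_zero.mp e8

/-- Elements fixed by all multipliers. -/
def RInv (f : El m) : Prop :=
  R.Inv f ∧ ∀ (u : (ZMod m)ˣ) (i : ZMod m), f.coeff (r ((u : ZMod m) * i)) = f.coeff (r i)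

theorem rinv_mul {f g : El m} (hf : R.RInv f) (hg : R.RInv g) : R.RInv (f * g) := by
  refine ⟨R.mul _ _ hf.1 hg.1, fun u i => ?_⟩
  have fix : ∀ {h : El m}, R.RInv h → R.gal u⁻¹ h = h := fun {h} hh =>
    R.ext_rot (R.inv_gal _ hh.1) hh.1 fun j => by rw [R.gal_rot _ hh.1, inv_inv, hh.2]
  have := R.gal_rot u⁻¹ (R.mul _ _ hf.1 hg.1) i
  rw [R.gal_mul _ hf.1 hg.1, fix hf, fix hg, inv_inv] at this
  exact this.symm

theorem rinv_one : R.RInv 1 := by
  refine ⟨R.inv_one, fun u i => ?_⟩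
  rw [coeff_one', coeff_one']
  simp only [← r_zero, r.injEq, Units.mul_right_eq_zero]

open Classical in
/-- The classes of the fixed ring. -/
noncomputable def fusedT (x : DihedralGroup m) : Finset (DihedralGroup m) :=
  Finset.univ.filter fun y => ∀ f, R.RInv f → f.coeff y = f.coeff x

theorem mem_fusedT {x y : DihedralGroup m} :
    y ∈ R.fusedT x ↔ ∀ f, R.RInv f → f.coeff y = f.coeff x := by
  classical
  simp [fusedT]

theorem subset_fusedT (x : DihedralGroup m) : R.T x ⊆ R.fusedT x := fun _ hy =>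
  R.mem_fusedT.mpr fun _ hf => hf.1 _ _ hy

theorem unit_mem_fusedT (u : (ZMod m)ˣ) (i : ZMod m) :
    r ((u : ZMod m) * i) ∈ R.fusedT (r i) :=
  R.mem_fusedT.mpr fun _ hf => hf.2 u i

theorem rinv_iff (f : El m) : IsInv R.fusedT f ↔ R.RInv f :=
  ⟨fun h => ⟨fun x _ hy => h x _ (R.subset_fusedT x hy), fun u i => h _ _ (R.unit_mem_fusedT u i)⟩,
    fun h _ _ hy => R.mem_fusedT.mp hy f h⟩

/-- The fixed ring of the multipliers. -/
noncomputable def fused : SR m where
  T := R.fusedT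
  two_le := R.two_le
  self x := R.mem_fusedT.mpr fun _ _ => rfl
  eq x y h := by
    ext z
    simp only [R.mem_fusedT] at h ⊢
    exact ⟨fun hz f hf => (hz f hf).trans (h f hf), fun hz f hf => (hz f hf).trans (h f hf).symm⟩
  one := by
    ext y
    rw [R.mem_fusedT, Finset.mem_singleton]
    refine ⟨fun h => ?_, fun h => h ▸ fun f _ => rfl⟩
    have := h 1 R.rinv_one
    rw [coeff_one', coeff_one', if_pos rfl] at this
    by_contra hy
    rw [if_neg hy] at this
    exact zero_ne_one this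
  inv x y h := by
    rw [R.mem_fusedT] at h ⊢
    intro f hf
    rw [R.coeff_inv hf.1, R.coeff_inv hf.1]
    exact h f hf
  mul f g hf hg := (R.rinv_iff _).mpr (R.rinv_mul ((R.rinv_iff f).mp hf) ((R.rinv_iff g).mp hg))
  prim K hK := R.prim K fun x hx y hy => hK x hx y (R.subset_fusedT x hy)

theorem card_class (S : DihedralGroup m) :
    (ind (R.T S) * ind (R.T S)).coeff 1 = ((R.T S).card : ℤ) := by
  rw [coeff_mul']
  have : ∀ a, (ind (R.T S)).coeff (a⁻¹ * 1) = (ind (R.T S)).coeff a := fun a => by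
    rw [mul_one]; exact R.coeff_inv (R.inv_ind S) a
  rw [Finset.sum_congr rfl fun a _ => by rw [this a]]
  simp [Finset.sum_ite_mem]

/-- If the fixed ring has rank two then so has the ring. -/
theorem rank_two_of_fused (h : ∀ x y, x ≠ 1 → y ≠ 1 → y ∈ R.fusedT x) :
    ∀ x y, x ≠ 1 → y ≠ 1 → y ∈ R.T x := by
  classical
  have hconn : ∀ i j : ZMod m, i ≠ 0 → j ≠ 0 → ∃ u : (ZMod m)ˣ, r ((u : ZMod m) * j) ∈ R.T (r i) := by
    intro i j hi hj
    let F : El m := mkEl fun x =>
      if ∃ u : (ZMod m)ˣ, r ((u : ZMod m) * R.rep x) ∈ R.T (r i) then 1 else 0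
    have hF : R.RInv F := by
      have hinv : R.Inv F := by
        intro x y hy
        have : ∀ u : (ZMod m)ˣ, r ((u : ZMod m) * R.rep y) ∈ R.T (r i) ↔
            r ((u : ZMod m) * R.rep x) ∈ R.T (r i) := fun u => by
          rw [R.mem_iff, R.mem_iff, R.eq _ _ (R.unit_mem u (R.rep_class hy))]
        simp only [F, mkEl_coeff, this]
      refine ⟨hinv, fun v k => ?_⟩
      have e1 : ∀ (u : (ZMod m)ˣ) (t : ZMod m), r ((u : ZMod m) * R.rep (r t)) ∈ R.T (r i) ↔
          r ((u : ZMod m) * t) ∈ R.T (r i) := fun u t => by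
        rw [R.mem_iff, R.mem_iff, R.eq _ _ (R.unit_mem u (R.rep_mem (r t)))]
      simp only [F, mkEl_coeff, e1]
      refine if_congr ⟨?_, ?_⟩ rfl rfl
      · rintro ⟨u, hu⟩; exact ⟨u * v, by rwa [Units.val_mul, mul_assoc]⟩
      · rintro ⟨u, hu⟩; exact ⟨u * v⁻¹, by rwa [Units.val_mul, mul_assoc, v.inv_mul_cancel_left]⟩
    have e := R.mem_fusedT.mp (h (r i) (r j) (by rwa [← r_zero, ne_eq, r.injEq])
      (by rwa [← r_zero, ne_eq, r.injEq])) F hF
    have e1 : F.coeff (r i) = 1 := by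
      simp only [F, mkEl_coeff]
      exact if_pos ⟨1, by simpa using R.rep_mem (r i)⟩
    rw [e1] at e
    obtain ⟨u, hu⟩ : ∃ u : (ZMod m)ˣ, r ((u : ZMod m) * R.rep (r j)) ∈ R.T (r i) := by
      by_contra hc
      simp only [F, mkEl_coeff, if_neg hc, zero_ne_one] at e
    refine ⟨u, ?_⟩
    rw [R.mem_iff] at hu ⊢
    rw [← hu, R.eq _ _ (R.unit_mem u (R.rep_mem (r j)))]
  have hsize : ∀ (u : (ZMod m)ˣ) (i : ZMod m),
      (R.T (r ((u : ZMod m) * i))).card = (R.T (r i)).card ∧
      (Finset.univ.filter fun t => r t ∈ R.T (r ((u : ZMod m) * i))).card =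
        (Finset.univ.filter fun t => r t ∈ R.T (r i)).card := by
    intro u i
    have hiff : ∀ t, r t ∈ R.T (r ((u : ZMod m) * i)) ↔
        r ((↑u⁻¹ : ZMod m) * t) ∈ R.T (r i) := by
      intro t
      constructor
      · intro ht; simpa using R.unit_mem u⁻¹ ht
      · intro ht; simpa using R.unit_mem u ht
    constructor
    · have hg : R.gal u (ind (R.T (r i))) = ind (R.T (r ((u : ZMod m) * i))) := by
        refine R.ext_rot (R.inv_gal u (R.inv_ind _)) (R.inv_ind _) fun t => ?_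
        rw [R.gal_rot u (R.inv_ind _)]
        simp only [ind_coeff, hiff]
      have e := R.card_class (r ((u : ZMod m) * i))
      rw [← hg, ← R.gal_mul u (R.inv_ind _) (R.inv_ind _), ← r_zero,
        R.gal_rot u (R.mul _ _ (R.inv_ind _) (R.inv_ind _)), mul_zero, r_zero, R.card_class] at e
      exact_mod_cast e.symm
    · refine Finset.card_equiv u⁻¹.mulLeft fun t => ?_
      simp [hiff t]
  intro x y hx hy
  obtain ⟨i, hi, hix⟩ := R.exists_rot hx
  set k := (R.T (r i)).card
  set a := (Finset.univ.filter fun t => r t ∈ R.T (r i)).card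
  have hall : ∀ z : DihedralGroup m, z ≠ 1 → (R.T z).card = k ∧
      (Finset.univ.filter fun t => r t ∈ R.T z).card = a := by
    intro z hz
    obtain ⟨j, hj, hjz⟩ := R.exists_rot hz
    obtain ⟨u, hu⟩ := hconn i j hi hj
    rw [← R.eq _ _ hjz]
    have := hsize u j
    rw [R.eq _ _ hu] at this
    exact ⟨this.1.symm, this.2.symm⟩
  let C := (Finset.univ.erase (1 : DihedralGroup m)).image R.T
  have hC1 : 2 * m - 1 = C.card * k := by
    have e := Finset.card_eq_sum_card_fiberwise (f := R.T) (s := Finset.univ.erase (1 : DihedralGroup m))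
      (t := C) (fun z hz => Finset.mem_image_of_mem R.T hz)
    rw [Finset.card_erase_of_mem (Finset.mem_univ _), Finset.card_univ, DihedralGroup.card] at e
    rw [e, Finset.sum_eq_card_nsmul (b := k)]
    · rfl
    intro c hc
    obtain ⟨z, hz, rfl⟩ := Finset.mem_image.mp hc
    rw [← (hall z (Finset.ne_of_mem_erase hz)).1]
    congr 1
    ext w
    simp only [Finset.mem_filter, Finset.mem_erase, Finset.mem_univ, and_true, ← R.mem_iff]
    exact ⟨fun hw => hw.2, fun hw => ⟨fun h1 => R.one_not_mem (Finset.ne_of_mem_erase hz) (h1 ▸ hw), hw⟩⟩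
  have hC2 : m - 1 = C.card * a := by
    have e := Finset.card_eq_sum_card_fiberwise (f := fun t => R.T (r t))
      (s := Finset.univ.erase (0 : ZMod m)) (t := C) (fun t ht => Finset.mem_image_of_mem R.T
        (Finset.mem_erase.mpr ⟨by rw [← r_zero, ne_eq, r.injEq]; exact Finset.ne_of_mem_erase ht,
          Finset.mem_univ _⟩))
    rw [Finset.card_erase_of_mem (Finset.mem_univ _), Finset.card_univ, ZMod.card] at e
    rw [e, Finset.sum_eq_card_nsmul (b := a)]
    · rfl
    intro c hc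
    obtain ⟨z, hz, rfl⟩ := Finset.mem_image.mp hc
    rw [← (hall z (Finset.ne_of_mem_erase hz)).2]
    congr 1
    ext w
    simp only [Finset.mem_filter, Finset.mem_erase, Finset.mem_univ, and_true, true_and, ← R.mem_iff]
    refine ⟨fun hw => hw.2, fun hw => ⟨fun h1 => R.one_not_mem (Finset.ne_of_mem_erase hz) ?_, hw⟩⟩
    rwa [h1, r_zero] at hw
  have hd : C.card ∣ 1 := by
    have h1 : C.card ∣ 2 * (m - 1) := Dvd.dvd.mul_left ⟨a, hC2⟩ 2
    have h2 : C.card ∣ 2 * m - 1 := ⟨k, hC1⟩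
    have h3 := Nat.dvd_sub h2 h1
    rwa [show 2 * m - 1 - 2 * (m - 1) = 1 by have := R.two_le; omega] at h3
  rw [R.mem_iff]
  exact Finset.card_le_one.mp (Nat.dvd_one.mp hd).le _
    (Finset.mem_image_of_mem R.T (Finset.mem_erase.mpr ⟨hy, Finset.mem_univ _⟩)) _
    (Finset.mem_image_of_mem R.T (Finset.mem_erase.mpr ⟨hx, Finset.mem_univ _⟩))

/-- A ring fixed by all multipliers. -/
def IsRat : Prop := ∀ (u : (ZMod m)ˣ) (i : ZMod m), r ((u : ZMod m) * i) ∈ R.T (r i)

theorem fused_isRat : R.fused.IsRat := R.unit_mem_fusedT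

theorem mem_of_addOrderOf_eq (hR : R.IsRat) {i j : ZMod m}
    (h : addOrderOf i = addOrderOf j) : r j ∈ R.T (r i) := by
  have key : ∃ u : (ZMod m)ˣ, (u : ZMod m) * i = j := by
    have hj : j ∈ AddSubgroup.zmultiples i := by
      classical
      have h1 : (Finset.univ.filter fun x => x ∈ AddSubgroup.zmultiples i) ⊆
          Finset.univ.filter fun x => addOrderOf i • x = 0 := by
        intro x hx
        simp only [Finset.mem_filter, Finset.mem_univ, true_and] at hx ⊢
        obtain ⟨z, rfl⟩ := hx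
        show addOrderOf i • (z • i) = 0
        rw [smul_comm, addOrderOf_nsmul_eq_zero, smul_zero]
      have h2 : (Finset.univ.filter fun x : ZMod m => addOrderOf i • x = 0).card ≤
          (Finset.univ.filter fun x => x ∈ AddSubgroup.zmultiples i).card := by
        refine (IsAddCyclic.card_nsmul_eq_zero_le (α := ZMod m) (addOrderOf_pos i)).trans ?_
        rw [← Nat.card_zmultiples, Nat.card_eq_fintype_card, Fintype.card_subtype]
      have h3 := Finset.eq_of_subset_of_card_le h1 h2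
      have h4 : j ∈ Finset.univ.filter fun x => addOrderOf i • x = 0 := by
        refine Finset.mem_filter.mpr ⟨Finset.mem_univ _, ?_⟩
        rw [h, addOrderOf_nsmul_eq_zero]
      rw [← h3] at h4
      exact (Finset.mem_filter.mp h4).2
    rw [← mem_multiples_iff_mem_zmultiples] at hj
    obtain ⟨k, hk⟩ := hj
    have hk' : k • i = j := hk
    set n := addOrderOf i with hn
    have hn0 : 0 < n := addOrderOf_pos i
    have hcop : Nat.Coprime k n := by
      have h1 := addOrderOf_nsmul (n := k) i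
      rw [hk', ← h] at h1
      have h2 := Nat.gcd_dvd_left (addOrderOf i) k
      rw [← hn] at h1 h2
      have h3 : n / n.gcd k * n.gcd k = n := Nat.div_mul_cancel h2
      rw [← h1] at h3
      rw [Nat.coprime_comm]
      exact Nat.eq_of_mul_eq_mul_left hn0 (h3.trans (mul_one n).symm)
    have hnm : n ∣ m := by
      rw [hn, addOrderOf_dvd_iff_nsmul_eq_zero, nsmul_eq_mul, ZMod.natCast_self, zero_mul]
    obtain ⟨u, hu⟩ := ZMod.unitsMap_surjective hnm (ZMod.unitOfCoprime k hcop)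
    refine ⟨u, ?_⟩
    rw [← hk']
    have hu' : ((u : ZMod m).val : ZMod n) = (k : ZMod n) := by
      have := congrArg (fun w : (ZMod n)ˣ => (w : ZMod n)) hu
      simpa [ZMod.unitsMap_val, ZMod.natCast_val] using this
    rw [ZMod.natCast_eq_natCast_iff, ← nsmul_eq_nsmul_iff_modEq] at hu'
    rw [← hu', nsmul_eq_mul, ZMod.natCast_zmod_val]
  obtain ⟨u, hu⟩ := key
  exact hu ▸ hR u i

end SR

end Cfsg.Lib.DihedralB
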