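import Cfsg.Agent.DihedralBGroup.TwoPower

/-!
Primitive Schur rings over dihedral groups have rank two, and the consequence for primitive
groups containing a regular dihedral subgroup.
-/

set_option autoImplicit false
set_option linter.unusedSectionVars false

namespace Cfsg.Lib.DihedralB

open DihedralGroup Finset

variable {m : ℕ} [NeZero m]

theorem sum_coeff_mul (f g : El m) :
    ∑ x, (f * g).coeff x = (∑ x, f.coeff x) * ∑ x, g.coeff x := by
  simp only [coeff_mul']
  rw [Finset.sum_comm, Finset.sum_mul]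
  refine Finset.sum_congr rfl fun a _ => ?_
  rw [← Finset.mul_sum]
  congr 1
  exact Fintype.sum_equiv (Equiv.mulLeft a⁻¹) _ _ fun _ => rfl

theorem sum_coeff_pow (f : El m) (n : ℕ) : ∑ x, (f ^ n).coeff x = (∑ x, f.coeff x) ^ n := by
  induction n with
  | zero => simp [coeff_one']
  | succ n ih => rw [pow_succ, sum_coeff_mul, ih, pow_succ]

namespace SR

variable (R : SR m)

/-- The data of a class away from the rotations of order `q`. -/
theorem periodic2 (hR : R.IsRat) {q : ℕ} (hq : q.Prime) (hqm : q ∣ m) (hp : R.IsPeriodic q)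
    {w : ZMod m} (hw : addOrderOf w = q) {x₀ : DihedralGroup m} (hx₀ : x₀ ≠ 1)
    (hxw : x₀ ∉ R.T (r w)) :
    ∃ D : Periodic2 m q, q ≠ 2 → (q : ℤ) ∣ D.a + D.b := by
  classical
  set f := ind (R.T x₀) with hf
  have hfinv : R.Inv f := R.inv_ind _
  have hper : ∀ t h : ZMod m, q • h = 0 → f.coeff (r (t + h)) = f.coeff (r t) := by
    intro t h hh
    simp only [hf, ind_coeff]
    have : r (t + h) ∈ R.T x₀ ↔ r t ∈ R.T x₀ := by
      constructor
      · intro h1
        have := (R.class_periodic hR hq hp hw hx₀ hxw h1 (h := -h) (by rw [smul_neg, hh, neg_zero])).2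
        rwa [add_neg_cancel_right] at this
      · exact fun h1 => (R.class_periodic hR hq hp hw hx₀ hxw h1 hh).2
    simp only [this]
  have hsq : ∀ x, x ≠ 1 → (f * f).coeff x = (f * f).coeff (r w) := fun x hx =>
    R.square_const hR hq hp hw hx₀ hxw hx
  let D : Periodic2 m q :=
    { A := fun i => f.coeff (r i)
      B := fun i => f.coeff (sr i)
      μ := (f * f).coeff (r w)
      A01 := fun i => by simp only [hf, ind_coeff]; split_ifs <;> simp
      B01 := fun i => by simp only [hf, ind_coeff]; split_ifs <;> simp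
      A_zero := by
        rw [hf, ind_coeff, if_neg]
        rw [r_zero]; exact R.one_not_mem hx₀
      A_neg := fun i => R.coeff_neg hfinv i
      A_per := fun i h hh => hper i h hh
      A_unit := fun u i => hfinv _ _ (hR u i)
      A_ord := fun i j hij => (hfinv _ _ (R.mem_of_addOrderOf_eq hR hij)).symm
      A_pos := by
        obtain ⟨i, -, hi⟩ := R.exists_rot hx₀
        refine Finset.sum_pos' (fun j _ => ?_) ⟨i, Finset.mem_univ i, ?_⟩
        · simp only [hf, ind_coeff]; split_ifs <;> norm_num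
        · simp only [hf, ind_coeff, if_pos hi]; norm_num
      B_pos := by
        obtain ⟨y, hy, hyK⟩ := R.exists_not_mem hx₀ rotSubgroup_ne_top
        rcases y with i | i
        · exact absurd ⟨i, rfl⟩ hyK
        · refine Finset.sum_pos' (fun j _ => ?_) ⟨i, Finset.mem_univ i, ?_⟩
          · simp only [hf, ind_coeff]; split_ifs <;> norm_num
          · simp only [hf, ind_coeff, if_pos hy]; norm_num
      sq_rot := fun j hj => by
        rw [← coeff_mul_r]
        exact hsq _ (by rwa [← r_zero, ne_eq, r.injEq])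
      sq_ref := fun j => by
        rw [← coeff_mul_sr]
        exact hsq _ (fun h => by rw [← r_zero] at h; cases h) }
  refine ⟨D, fun h2 => ?_⟩
  have hsum : D.a + D.b = ∑ x, f.coeff x := by rw [sum_dihedral]; rfl
  have hdvd : ((q : ℤ) : El m) ∣ f ^ q := by
    refine R.dvd_of_rot (R.inv_pow hfinv q) fun j => ?_
    have h1 : (q : ℤ) ∣ (f ^ q).coeff (r j) - ∑ t with q • t = j, f.coeff (r t) := by
      simpa using rp_pow_push hq h2 f (R.rev_rp hfinv) 1 j
    refine (dvd_sub_left ?_).mp h1
    by_cases hne : ∃ t0, q • t0 = j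
    · obtain ⟨t0, rfl⟩ := hne
      rw [Finset.sum_congr rfl (g := fun _ => f.coeff (r t0)) fun t ht => ?_, Finset.sum_const,
        card_fibre hq hqm t0, nsmul_eq_mul]
      · exact dvd_mul_right _ _
      · have ht' : q • t = q • t0 := (Finset.mem_filter.mp ht).2
        have := hper t0 (t - t0) (by rw [smul_sub, ht', sub_self])
        rwa [add_sub_cancel] at this
    · rw [Finset.sum_eq_zero fun t ht => absurd ⟨t, (Finset.mem_filter.mp ht).2⟩ hne]
      exact dvd_zero _
  rw [dvd_iff_coeff] at hdvd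
  have h3 : (q : ℤ) ∣ ∑ x, (f ^ q).coeff x := Finset.dvd_sum fun x _ => hdvd x
  rw [sum_coeff_pow, ← hsum] at h3
  exact (Nat.prime_iff_prime_int.mp hq).dvd_of_dvd_pow h3

/-- A primitive Schur ring over a dihedral group has rank two. -/
theorem rank_two (x y : DihedralGroup m) (hx : x ≠ 1) (hy : y ≠ 1) : y ∈ R.T x := by
  set F := R.fused with hF
  have hrat : F.IsRat := R.fused_isRat
  obtain ⟨q, hq, hqm, hper⟩ : ∃ q, q.Prime ∧ q ∣ m ∧ F.IsPeriodic q ∧
      (q = 2 → ∃ s, m = 2 ^ s) := by
    rcases Nat.eq_two_pow_or_exists_odd_prime_and_dvd m with ⟨s, hs⟩ | ⟨q, hq, hqm, hodd⟩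
    · refine ⟨2, Nat.prime_two, ?_, F.periodic_two hrat hs, fun _ => ⟨s, hs⟩⟩
      rw [hs]
      refine dvd_pow_self 2 ?_
      rintro rfl
      have := R.two_le
      rw [hs, pow_zero] at this
      omega
    · have h2 : q ≠ 2 := by rintro rfl; exact absurd hodd (by decide)
      exact ⟨q, hq, hqm, F.periodic_odd hrat hq h2 hqm, fun h => absurd h h2⟩
  obtain ⟨w, hw⟩ := exists_addOrderOf (m := m) hq hqm
  have hall : ∀ z, z ≠ 1 → z ∈ F.T (r w) := by
    intro z hz
    by_contra hzw
    obtain ⟨D, hD⟩ := F.periodic2 hrat hq hqm hper.1 hw hz hzw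
    rcases eq_or_ne q 2 with rfl | h2
    · obtain ⟨s, hs⟩ := hper.2 rfl
      exact D.false_of_two hs
    · exact D.false_of_odd hq h2 hqm (hD h2)
  refine R.rank_two_of_fused (fun a b ha hb => ?_) x y hx hy
  show b ∈ F.T a
  rw [F.eq _ _ (hall a ha)]
  exact hall b hb

end SR

variable {G Ω : Type*} [Group G] [MulAction G Ω]

/-- A primitive group with a regular dihedral subgroup of order at least four is
doubly transitive. -/
theorem two_pretransitive (hm : 2 ≤ m) (hprim : MulAction.IsPreprimitive G Ω)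
    (φ : DihedralGroup m →* G) (a₀ : Ω)
    (hbij : Function.Bijective fun h : DihedralGroup m => φ h • a₀) :
    MulAction.IsMultiplyPretransitive G Ω 2 := by
  classical
  set e : DihedralGroup m ≃ Ω := Equiv.ofBijective _ hbij
  have he : ∀ h, e h = φ h • a₀ := fun h => rfl
  let σ : G → DihedralGroup m → DihedralGroup m := fun g h => e.symm (g • e h)
  have hσ : ∀ g h, e (σ g h) = g • e h := fun g h => e.apply_symm_apply _
  have hσmul : ∀ g g' h, σ (g * g') h = σ g (σ g' h) := fun g g' h =>
    e.injective (by rw [hσ, hσ, hσ, mul_smul])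
  have hσφ : ∀ u h, σ (φ u) h = u * h := fun u h =>
    e.injective (by rw [hσ, he, he, map_mul, mul_smul])
  have hσ1 : ∀ h, σ 1 h = h := fun h => e.injective (by rw [hσ, one_smul])
  have hσinv : ∀ g h, σ g⁻¹ (σ g h) = h := fun g h => by rw [← hσmul, inv_mul_cancel, hσ1]
  let T : DihedralGroup m → Finset (DihedralGroup m) := fun x =>
    Finset.univ.filter fun y => ∃ g : G, σ g 1 = 1 ∧ σ g x = y
  have hT : ∀ x y, y ∈ T x ↔ ∃ g : G, σ g 1 = 1 ∧ σ g x = y := fun x y => by simp [T]
  have hinvar : ∀ (g : G) (a b : DihedralGroup m), (σ g a)⁻¹ * σ g b ∈ T (a⁻¹ * b) := by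
    intro g a b
    refine (hT _ _).mpr ⟨φ (σ g a)⁻¹ * g * φ a, ?_, ?_⟩
    · rw [hσmul, hσmul, hσφ, hσφ, mul_one, inv_mul_cancel]
    · rw [hσmul, hσmul, hσφ, hσφ, mul_inv_cancel_left]
  have hKinv : ∀ f : El m, IsInv T f → ∀ (g : G) a b,
      f.coeff ((σ g a)⁻¹ * σ g b) = f.coeff (a⁻¹ * b) := fun f hf g a b => hf _ _ (hinvar g a b)
  have hTself : ∀ x, x ∈ T x := fun x => (hT x x).mpr ⟨1, hσ1 1, hσ1 x⟩
  have hTeq : ∀ x y, y ∈ T x → T y = T x := by
    intro x y h
    obtain ⟨g, hg1, hgx⟩ := (hT x y).mp h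
    ext z
    rw [hT, hT]
    constructor
    · rintro ⟨g', hg'1, hg'y⟩
      exact ⟨g' * g, by rw [hσmul, hg1, hg'1], by rw [hσmul, hgx, hg'y]⟩
    · rintro ⟨g', hg'1, hg'x⟩
      refine ⟨g' * g⁻¹, ?_, ?_⟩
      · rw [hσmul, show σ g⁻¹ 1 = 1 from by conv_lhs => rw [← hg1]
                                            exact hσinv g 1, hg'1]
      · rw [hσmul, ← hgx, hσinv, hg'x]
  let R : SR m :=
    { T := T
      two_le := hm
      self := hTself
      eq := hTeq
      one := by
        ext y
        rw [hT, Finset.mem_singleton]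
        exact ⟨fun ⟨g, h1, h2⟩ => h2.symm.trans h1, fun h => ⟨1, hσ1 1, by rw [h, hσ1]⟩⟩
      inv := by
        intro x y h
        obtain ⟨g, hg1, hgx⟩ := (hT x y).mp h
        have := hinvar g x 1
        rw [hg1, hgx, mul_one, mul_one] at this
        exact this
      mul := by
        intro f f' hf hf' x y h
        obtain ⟨g, hg1, hgx⟩ := (hT x y).mp h
        rw [coeff_mul', coeff_mul']
        let π : DihedralGroup m ≃ DihedralGroup m :=
          { toFun := σ g
            invFun := σ g⁻¹
            left_inv := hσinv g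
            right_inv := fun h => by rw [← hσmul, mul_inv_cancel, hσ1] }
        refine (Fintype.sum_equiv π _ _ fun c => ?_).symm
        show _ = f.coeff (σ g c) * f'.coeff ((σ g c)⁻¹ * y)
        have e1 := hKinv f hf g 1 c
        rw [hg1, inv_one, one_mul, one_mul] at e1
        rw [← hgx, e1, hKinv f' hf' g c x]
      prim := by
        intro K hK
        have hB : MulAction.IsBlock G (e '' (K : Set (DihedralGroup m))) := by
          rw [MulAction.isBlock_iff_smul_eq_of_mem]
          rintro g a ⟨u, hu, rfl⟩ ⟨v, hv, hveq⟩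
          have h1 : σ g u = v := e.injective ((hσ g u).trans hveq.symm)
          have key : ∀ y, σ g y ∈ K ↔ y ∈ K := by
            intro y
            have h2 : (v⁻¹ * σ g y) ∈ K ↔ u⁻¹ * y ∈ K := by
              rw [← h1]
              exact ⟨fun h => hK _ h _ (hTeq _ _ (hinvar g u y) ▸ hTself _),
                fun h => hK _ h _ (hinvar g u y)⟩
            rw [K.mul_mem_cancel_left (K.inv_mem hv), K.mul_mem_cancel_left (K.inv_mem hu)] at h2
            exact h2
          ext b
          constructor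
          · rintro ⟨c, ⟨y, hy, rfl⟩, rfl⟩
            exact ⟨σ g y, (key y).mpr hy, hσ g y⟩
          · rintro ⟨y, hy, rfl⟩
            refine ⟨e (σ g⁻¹ y), ⟨_, (key _).mp ?_, rfl⟩, ?_⟩
            · rwa [← hσmul, mul_inv_cancel, hσ1]
            · show g • e (σ g⁻¹ y) = e y
              rw [hσ, smul_inv_smul]
        rcases hprim.isTrivialBlock_of_isBlock hB with h | h
        · left
          refine (Subgroup.eq_bot_iff_forall K).mpr fun x hx => ?_
          exact e.injective (h ⟨x, hx, rfl⟩ ⟨1, K.one_mem, rfl⟩)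
        · right
          refine (Subgroup.eq_top_iff' K).mpr fun x => ?_
          obtain ⟨y, hy, hyx⟩ : e x ∈ e '' (K : Set (DihedralGroup m)) := h ▸ trivial
          exact e.injective hyx ▸ hy }
  rw [MulAction.is_two_pretransitive_iff]
  intro a b c d hab hcd
  have k1 : (e.symm a)⁻¹ * e.symm b ≠ 1 := by
    rw [ne_eq, inv_mul_eq_one]; exact fun h => hab (e.symm.injective h)
  have k2 : (e.symm c)⁻¹ * e.symm d ≠ 1 := by
    rw [ne_eq, inv_mul_eq_one]; exact fun h => hcd (e.symm.injective h)
  obtain ⟨g, hg1, hgx⟩ := (hT _ _).mp (R.rank_two _ _ k1 k2)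
  refine ⟨φ (e.symm c) * g * φ (e.symm a)⁻¹, ?_, ?_⟩
  · have h1 : σ (φ (e.symm c) * g * φ (e.symm a)⁻¹) (e.symm a) = e.symm c := by
      rw [hσmul, hσmul, hσφ, hσφ, inv_mul_cancel, hg1, mul_one]
    have := congrArg e h1
    rwa [hσ, e.apply_symm_apply, e.apply_symm_apply] at this
  · have h1 : σ (φ (e.symm c) * g * φ (e.symm a)⁻¹) (e.symm b) = e.symm d := by
      rw [hσmul, hσmul, hσφ, hσφ, hgx, mul_inv_cancel_left]
    have := congrArg e h1
    rwa [hσ, e.apply_symm_apply, e.apply_symm_apply] at this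

end Cfsg.Lib.DihedralB
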