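import Cfsg.Agent.DihedralBGroup.Free

/-!
The rotation parts of the classes of a rational primitive Schur ring are periodic under the
rotations of order `q` outside these, and the square of a periodic class is constant off `1`.
-/

set_option autoImplicit false
set_option linter.unusedSectionVars false

namespace Cfsg.Lib.DihedralB

open DihedralGroup Finset

variable {m : ℕ} [NeZero m]

theorem exists_addOrderOf {q : ℕ} (hq : q.Prime) (hqm : q ∣ m) : ∃ w : ZMod m, addOrderOf w = q := by
  refine ⟨((m / q : ℕ) : ZMod m), ?_⟩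
  have hpos : 0 < m / q := Nat.div_pos (Nat.le_of_dvd (NeZero.pos m) hqm) hq.pos
  rw [ZMod.addOrderOf_coe _ (NeZero.ne m), Nat.gcd_eq_right (Nat.div_dvd_of_dvd hqm),
    Nat.div_div_self hqm (NeZero.ne m)]

theorem card_torsion {q : ℕ} (hq : q.Prime) (hqm : q ∣ m) :
    (Finset.univ.filter fun h : ZMod m => q • h = 0).card = q := by
  classical
  refine le_antisymm (IsAddCyclic.card_nsmul_eq_zero_le hq.pos) ?_
  obtain ⟨w, hw⟩ := exists_addOrderOf (m := m) hq hqm
  calc q = ((Finset.range q).image fun i : ℕ => i • w).card := by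
        rw [Finset.card_image_of_injOn, Finset.card_range]
        intro i hi j hj hij
        exact nsmul_injOn_Iio_addOrderOf (by simpa [hw] using hi) (by simpa [hw] using hj) hij
    _ ≤ _ := by
        refine Finset.card_le_card fun x hx => ?_
        obtain ⟨i, -, rfl⟩ := Finset.mem_image.mp hx
        refine Finset.mem_filter.mpr ⟨Finset.mem_univ _, ?_⟩
        rw [smul_comm, ← hw, addOrderOf_nsmul_eq_zero, smul_zero]

theorem card_fibre {q : ℕ} (hq : q.Prime) (hqm : q ∣ m) (t : ZMod m) :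
    (Finset.univ.filter fun i : ZMod m => q • i = q • t).card = q := by
  refine Eq.trans ?_ (card_torsion (m := m) hq hqm)
  refine Finset.card_equiv (Equiv.subRight t) fun i => ?_
  simp only [Finset.mem_filter, Finset.mem_univ, true_and, Equiv.subRight_apply, smul_sub,
    sub_eq_zero]

theorem addOrderOf_eq_mul {q : ℕ} {t : ZMod m} (h : q ∣ addOrderOf t) :
    addOrderOf t = q * addOrderOf (q • t) := by
  rw [addOrderOf_nsmul, Nat.gcd_eq_right h, Nat.mul_div_cancel' h]

theorem dvd_addOrderOf_of_dvd_nsmul {q : ℕ} {t : ZMod m} (h : q ∣ addOrderOf (q • t)) :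
    q ∣ addOrderOf t := by
  refine h.trans ?_
  rw [addOrderOf_nsmul]
  exact Nat.div_dvd_of_dvd (Nat.gcd_dvd_left _ _)

namespace SR

variable (R : SR m)

/-- Periodicity of the rotation parts under the rotations killed by `q`. -/
def IsPeriodic (q : ℕ) : Prop :=
  ∀ i h : ZMod m, q • i ≠ 0 → q • h = 0 → r (i + h) ∈ R.T (r i)

theorem periodic_odd (hR : R.IsRat) {q : ℕ} (hq : q.Prime) (h2 : q ≠ 2) (hqm : q ∣ m) :
    R.IsPeriodic q := by
  classical
  intro i h hi hh
  set f := ind (R.T (r i)) with hf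
  have hfinv : R.Inv f := R.inv_ind _
  have hcong : ∀ j, (q : ℤ) ∣ (f ^ q).coeff (r j) - ∑ t with q • t = j, f.coeff (r t) := fun j => by
    simpa using rp_pow_push hq h2 f (R.rev_rp hfinv) 1 j
  have hzero : ∀ j, j ≠ 0 → (q : ℤ) ∣ (f ^ q).coeff (r j) := by
    intro j hj
    obtain ⟨j', hj', hord⟩ := R.exists_nonreg hq h2 hqm
      (show (r j : DihedralGroup m) ≠ 1 by rwa [← r_zero, ne_eq, r.injEq])
    rw [← R.inv_pow hfinv q _ _ hj']
    have hsum : (q : ℤ) ∣ ∑ t with q • t = j', f.coeff (r t) := by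
      by_cases hne : ∃ t0, q • t0 = j'
      · obtain ⟨t0, ht0⟩ := hne
        rw [Finset.sum_congr rfl (g := fun _ => f.coeff (r t0)) fun t ht => ?_, Finset.sum_const,
          ← ht0, card_fibre hq hqm t0, nsmul_eq_mul]
        · exact dvd_mul_right _ _
        · refine hfinv _ _ (R.mem_of_addOrderOf_eq hR ?_)
          have ht' : q • t = j' := (Finset.mem_filter.mp ht).2
          have e0 := addOrderOf_eq_mul (t := t0) (dvd_addOrderOf_of_dvd_nsmul (q := q) (by rw [ht0]; exact hord))
          have e1 := addOrderOf_eq_mul (t := t) (dvd_addOrderOf_of_dvd_nsmul (q := q) (by rw [ht']; exact hord))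
          rw [e0, e1, ht0, ht']
      · rw [Finset.sum_eq_zero fun t ht => absurd ⟨t, (Finset.mem_filter.mp ht).2⟩ hne]
        exact dvd_zero _
    exact (dvd_sub_left hsum).mp (hcong j')
  have h3 : (q : ℤ) ∣ ∑ t with q • t = q • i, f.coeff (r t) :=
    (dvd_sub_right (hzero _ hi)).mp (hcong _)
  set S := Finset.univ.filter fun t : ZMod m => q • t = q • i
  have h4 : ∑ t ∈ S, f.coeff (r t) = ((S.filter fun t => r t ∈ R.T (r i)).card : ℤ) := by
    simp only [hf, ind_coeff, Finset.sum_boole]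
  rw [h4, Int.natCast_dvd_natCast] at h3
  have h5 : S.filter (fun t => r t ∈ R.T (r i)) = S := by
    refine Finset.eq_of_subset_of_card_le (Finset.filter_subset _ _) ?_
    rw [card_fibre hq hqm i]
    exact Nat.le_of_dvd (Finset.card_pos.mpr ⟨i, by simp [S, R.self]⟩) h3
  have h6 : i + h ∈ S.filter fun t => r t ∈ R.T (r i) := by
    rw [h5]; simp only [S, Finset.mem_filter, Finset.mem_univ, true_and, smul_add, hh, add_zero]
  exact (Finset.mem_filter.mp h6).2

theorem periodic_two (hR : R.IsRat) {s : ℕ} (hm : m = 2 ^ s) : R.IsPeriodic 2 := by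
  intro i h hi hh
  refine R.mem_of_addOrderOf_eq hR ?_
  have key : ∀ x : ZMod m, 2 • x = 2 • i → addOrderOf x = 2 * addOrderOf (2 • i) := by
    intro x hx
    rw [← hx]
    refine addOrderOf_eq_mul ?_
    have h1 : addOrderOf x ∣ 2 ^ s := hm ▸ addOrderOf_dvd_iff_nsmul_eq_zero.mpr
      (by rw [nsmul_eq_mul, ZMod.natCast_self, zero_mul])
    obtain ⟨t, -, ht⟩ := (Nat.dvd_prime_pow Nat.prime_two).mp h1
    rcases t with - | t
    · rw [pow_zero, AddMonoid.addOrderOf_eq_one_iff] at ht
      exact absurd (by rw [← hx, ht, smul_zero]) hi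
    · rw [ht, pow_succ']; exact dvd_mul_right _ _
  rw [key i rfl, key (i + h) (by rw [smul_add, hh, add_zero])]

theorem torsion_mem (hR : R.IsRat) {q : ℕ} (hq : q.Prime) {w h : ZMod m} (hw : addOrderOf w = q)
    (hh : q • h = 0) (h0 : h ≠ 0) : r h ∈ R.T (r w) := by
  have : Fact q.Prime := ⟨hq⟩
  exact R.mem_of_addOrderOf_eq hR (hw.trans (addOrderOf_eq_prime hh h0).symm)

/-- A class away from the rotations of order `q` has periodic rotation part. -/
theorem class_periodic (hR : R.IsRat) {q : ℕ} (hq : q.Prime) (hp : R.IsPeriodic q) {w : ZMod m}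
    (hw : addOrderOf w = q) {x : DihedralGroup m} (hx : x ≠ 1) (hxw : x ∉ R.T (r w))
    {t h : ZMod m} (ht : r t ∈ R.T x) (hh : q • h = 0) :
    q • t ≠ 0 ∧ r (t + h) ∈ R.T x := by
  have hqt : q • t ≠ 0 := by
    intro h0
    rcases eq_or_ne t 0 with rfl | ht0
    · exact R.one_not_mem hx (r_zero (n := m) ▸ ht)
    · have h1 := R.torsion_mem hR hq hw h0 ht0
      exact hxw (R.eq _ _ h1 ▸ R.mem_symm ht)
  exact ⟨hqt, R.eq _ _ ht ▸ hp t h hqt hh⟩

/-- The square of a periodic class is constant off `1`. -/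
theorem square_const (hR : R.IsRat) {q : ℕ} (hq : q.Prime) (hp : R.IsPeriodic q) {w : ZMod m}
    (hw : addOrderOf w = q) {x₀ : DihedralGroup m} (hx₀ : x₀ ≠ 1) (hxw : x₀ ∉ R.T (r w))
    {x : DihedralGroup m} (hx : x ≠ 1) :
    (ind (R.T x₀) * ind (R.T x₀)).coeff x = (ind (R.T x₀) * ind (R.T x₀)).coeff (r w) := by
  classical
  set f := ind (R.T x₀) with hf
  set g := f * f with hg
  have hfinv : R.Inv f := R.inv_ind _
  have hginv : R.Inv g := R.mul _ _ hfinv hfinv
  have hfper : ∀ t h : ZMod m, q • h = 0 → f.coeff (r (t + h)) = f.coeff (r t) := by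
    intro t h hh
    simp only [hf, ind_coeff]
    have : r (t + h) ∈ R.T x₀ ↔ r t ∈ R.T x₀ := by
      constructor
      · intro h1
        have := (R.class_periodic hR hq hp hw hx₀ hxw h1 (h := -h) (by rw [smul_neg, hh, neg_zero])).2
        rwa [add_neg_cancel_right] at this
      · exact fun h1 => (R.class_periodic hR hq hp hw hx₀ hxw h1 hh).2
    simp only [this]
  have hgs : ∀ j h : ZMod m, q • h = 0 → g.coeff (sr (j + h)) = g.coeff (sr j) := by
    intro j h hh
    rw [hg, coeff_mul_sr, coeff_mul_sr]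
    congr 1
    · refine Fintype.sum_equiv (Equiv.addRight h) _ _ fun i => ?_
      rw [Equiv.coe_addRight, hfper i h hh]
      congr 3; ring
    · refine Finset.sum_congr rfl fun i _ => ?_
      rw [show j + h - i = (j - i) + h by ring, hfper _ h hh]
  by_contra hne
  set c := g.coeff x
  let W : Finset (DihedralGroup m) := Finset.univ.filter fun z => z ≠ 1 ∧ g.coeff z = c
  have hW : ∀ z ∈ W, ∀ y ∈ R.T z, y ∈ W := by
    intro z hz y hy
    simp only [W, Finset.mem_filter, Finset.mem_univ, true_and] at hz ⊢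
    exact ⟨fun h1 => R.one_not_mem hz.1 (h1 ▸ hy), (hginv z y hy).trans hz.2⟩
  have hWr : ∀ z ∈ W, ∀ h : ZMod m, q • h = 0 → z * r h ∈ W := by
    intro z hz h hh
    have hz' := Finset.mem_filter.mp hz
    rcases z with t | t
    · rw [r_mul_r]
      have hqt : q • t ≠ 0 := by
        intro h0
        refine hne (hz'.2.2.symm.trans (hginv _ _ (R.torsion_mem hR hq hw h0 ?_)))
        rintro rfl
        exact hz'.2.1 r_zero
      exact hW _ hz _ (hp t h hqt hh)
    · rw [sr_mul_r]
      refine Finset.mem_filter.mpr ⟨Finset.mem_univ _, fun h1 => ?_, (hgs t h hh).trans hz'.2.2⟩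
      rw [← r_zero] at h1; cases h1
  have hWinv : ∀ z ∈ W, z⁻¹ ∈ W := fun z hz => hW z hz _ (R.symm z ▸ R.self z⁻¹)
  let L : Subgroup (DihedralGroup m) :=
    { carrier := {u | ∀ z ∈ W, u * z ∈ W}
      one_mem' := fun z hz => by rwa [one_mul]
      mul_mem' := fun {u v} hu hv z hz => by rw [mul_assoc]; exact hu _ (hv z hz)
      inv_mem' := fun {u} hu z hz => by
        have hsub : W.map (Equiv.mulLeft u).toEmbedding ⊆ W := by
          intro y hy
          obtain ⟨y', hy', rfl⟩ := Finset.mem_map.mp hy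
          exact hu y' hy'
        have heq := Finset.eq_of_subset_of_card_le hsub (by rw [Finset.card_map])
        rw [← heq] at hz
        obtain ⟨y', hy', rfl⟩ := Finset.mem_map.mp hz
        simpa using hy' }
  have hcount : ∀ u, (ind W * ind W).coeff u = ((W.filter fun a => u⁻¹ * a ∈ W).card : ℤ) := by
    intro u
    rw [coeff_mul']
    have : ∀ a, a⁻¹ * u ∈ W ↔ u⁻¹ * a ∈ W := fun a =>
      ⟨fun h => by simpa using hWinv _ h, fun h => by simpa using hWinv _ h⟩
    simp only [ind_coeff, ite_mul, one_mul, zero_mul, this]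
    rw [Finset.sum_ite_mem, Finset.univ_inter, Finset.sum_boole]
  have hLiff : ∀ u, u ∈ L ↔ (ind W * ind W).coeff u = (W.card : ℤ) := by
    intro u
    rw [hcount, Int.natCast_inj, Finset.card_filter_eq_iff]
    exact ⟨fun h a ha => L.inv_mem h a ha, fun h => inv_inv u ▸ L.inv_mem h⟩
  have hLu : ∀ u ∈ L, ∀ y ∈ R.T u, y ∈ L := by
    intro u hu y hy
    rw [hLiff] at hu ⊢
    rw [R.mul _ _ (R.inv_ind_union W hW) (R.inv_ind_union W hW) u y hy, hu]
  have hxW : x ∈ W := Finset.mem_filter.mpr ⟨Finset.mem_univ _, hx, rfl⟩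
  have hwL : r w ∈ L := by
    intro z hz
    have h1 := hWinv _ (hWr _ (hWinv z hz) (-w)
      (by rw [smul_neg, ← hw, addOrderOf_nsmul_eq_zero, neg_zero]))
    simpa using h1
  rcases R.prim L hLu with h | h
  · rw [h, Subgroup.mem_bot, ← r_zero, r.injEq] at hwL
    rw [hwL, addOrderOf_zero] at hw
    exact hq.ne_one hw.symm
  · have h1 : x⁻¹ * x ∈ W := (h ▸ Subgroup.mem_top x⁻¹ : x⁻¹ ∈ L) x hxW
    exact (Finset.mem_filter.mp h1).2.1 (inv_mul_cancel x)

end SR

end Cfsg.Lib.DihedralB
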