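import Cfsg.Agent.DihedralBGroup.Basic

/-!
Congruences for prime power exponents in the group ring of a dihedral group.
-/

set_option autoImplicit false
set_option linter.unusedSectionVars false

namespace Cfsg.Lib.DihedralB

open DihedralGroup Finset

variable {m : ℕ} [NeZero m]

/-- Push the rotation ring forward along multiplication by `k`. -/
noncomputable def push (k : ℕ) (x : Sc m) : Sc m :=
  mkSc fun j => ∑ i with k • i = j, x.coeff i

theorem push_coeff (k : ℕ) (x : Sc m) (j : ZMod m) :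
    (push k x).coeff j = ∑ i with k • i = j, x.coeff i := rfl

theorem push_sub (k : ℕ) (x y : Sc m) : push k (x - y) = push k x - push k y :=
  Sc.ext' fun j => by simp [push_coeff, Finset.sum_sub_distrib]

theorem push_dvd (k : ℕ) {n : ℤ} {x : Sc m} (h : (n : Sc m) ∣ x) : (n : Sc m) ∣ push k x := by
  rw [Sc.dvd_iff_coeff] at h ⊢
  intro j
  exact Finset.dvd_sum fun i _ => h i

theorem push_push (a b : ℕ) (x : Sc m) : push a (push b x) = push (a * b) x := by
  classical
  refine Sc.ext' fun j => ?_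
  simp only [push_coeff]
  rw [Finset.sum_fiberwise_eq_sum_filter]
  refine Finset.sum_congr (Finset.filter_congr fun i _ => ?_) fun _ _ => rfl
  simp only [Finset.mem_filter, Finset.mem_univ, true_and, mul_smul]

/-- The Frobenius congruence on the rotations. -/
theorem Sc.pow_prime {p : ℕ} (hp : p.Prime) (x : Sc m) :
    ((p : ℤ) : Sc m) ∣ x ^ p - push p x := by
  classical
  have hsingle : ∀ (i : ZMod m) (c : ℤ),
      push p (AddMonoidAlgebra.single i c) = AddMonoidAlgebra.single (p • i) c := by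
    intro i c
    refine Sc.ext' fun j => ?_
    rw [push_coeff, AddMonoidAlgebra.coeff_single, AddMonoidAlgebra.coeff_single, Finset.sum_filter,
      Finset.sum_eq_single i (fun b _ hb => by rw [Finsupp.single_eq_of_ne hb, ite_self])
        (fun h => absurd (Finset.mem_univ i) h), Finsupp.single_eq_same, Finsupp.single_apply]
  induction x using AddMonoidAlgebra.induction_linear with
  | zero =>
    have : push p (0 : Sc m) = 0 := Sc.ext' fun j => by simp [push_coeff]
    rw [this, zero_pow hp.ne_zero, sub_zero]; exact dvd_zero _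
  | add a b ha hb =>
    obtain ⟨c, hc⟩ := exists_add_pow_prime_eq hp a b
    have : push p (a + b) = push p a + push p b :=
      Sc.ext' fun j => by simp [push_coeff, Finset.sum_add_distrib]
    rw [this, hc]
    have h := dvd_add (dvd_add ha hb) (dvd_mul_right ((p : ℤ) : Sc m) (a * b * c))
    push_cast at h ⊢
    convert h using 1
    ring
  | single i c =>
    rw [hsingle, AddMonoidAlgebra.single_pow, ← AddMonoidAlgebra.single_sub, Sc.dvd_iff_coeff]
    intro j
    have : Fact p.Prime := ⟨hp⟩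
    have hd : (p : ℤ) ∣ c ^ p - c := (ZMod.intCast_zmod_eq_zero_iff_dvd _ _).mp (by simp [ZMod.pow_card])
    rw [AddMonoidAlgebra.coeff_single, Finsupp.single_apply]
    split_ifs
    · exact hd
    · exact dvd_zero _

theorem Sc.pow_prime_pow {p : ℕ} (hp : p.Prime) (L : ℕ) (x : Sc m) :
    ((p : ℤ) : Sc m) ∣ x ^ p ^ L - push (p ^ L) x := by
  induction L with
  | zero =>
    have : push 1 x = x := Sc.ext' fun j => by simp [push_coeff, Finset.filter_eq']
    simp [this]
  | succ L ih =>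
    have h1 := Sc.pow_prime hp (x ^ p ^ L)
    have h2 := push_dvd p ih
    rw [push_sub, push_push] at h2
    have h3 := dvd_add h1 h2
    rw [sub_add_sub_cancel, ← pow_mul, ← pow_succ] at h3
    rwa [← pow_succ'] at h3

theorem pow_sub_dvd_choose {q : ℕ} (hq : q.Prime) {L k v k' : ℕ} (hk : k = q ^ v * k')
    (hk' : ¬ q ∣ k') (hvL : v ≤ L) :
    q ^ (L - v) ∣ (q ^ L).choose k := by
  have hk0 : 0 < k := by
    rcases Nat.eq_zero_or_pos k' with rfl | h
    · exact absurd (dvd_zero q) hk'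
    · rw [hk]; exact Nat.mul_pos (pow_pos hq.pos v) h
  have h1 : q ^ L ∣ (q ^ L).choose k * k := by
    refine ⟨(q ^ L - 1).choose (k - 1), ?_⟩
    have h := Nat.add_one_mul_choose_eq (q ^ L - 1) (k - 1)
    rw [Nat.sub_add_cancel (Nat.one_le_pow _ _ hq.pos), Nat.sub_add_cancel hk0] at h
    exact h.symm
  rw [show q ^ L = q ^ v * q ^ (L - v) by rw [← pow_add]; congr 1; omega, hk,
    mul_left_comm] at h1
  have h2 := (Nat.mul_dvd_mul_iff_left (pow_pos hq.pos v)).mp h1
  rw [← pow_add, Nat.add_sub_cancel' hvL] at h2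
  rw [hk]
  exact ((Nat.Prime.coprime_iff_not_dvd hq).mpr hk' |>.pow_left _).dvd_of_dvd_mul_right h2

theorem natCast_dvd_natCast' {S : Type*} [CommRing S] {a b : ℕ} (h : a ∣ b) : (a : S) ∣ (b : S) := by
  obtain ⟨c, rfl⟩ := h
  push_cast
  exact dvd_mul_right _ _

theorem rp_pow_prime_pow {q : ℕ} (hq : q.Prime) (h2 : q ≠ 2) (f : El m)
    (hf : rev (rp f) = rp f) (L : ℕ) :
    ((q : ℤ) : Sc m) ∣ rp (f ^ q ^ L) - rp f ^ q ^ L := by
  rw [rp_pow f hf, Finset.sum_range_succ, Nat.sub_self, if_pos (by simp), Nat.choose_self]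
  simp only [Nat.cast_one, Nat.zero_div, pow_zero, mul_one, one_mul, add_sub_cancel_right]
  refine Finset.dvd_sum fun k hk => ?_
  have hk' := Finset.mem_range.mp hk
  split_ifs with hev
  · rcases Nat.eq_zero_or_pos k with rfl | hk0
    · have : Odd (q ^ L) := (hq.odd_of_ne_two h2).pow
      rw [Nat.sub_zero] at hev
      exact absurd hev (Nat.not_even_iff_odd.mpr this)
    · refine dvd_mul_of_dvd_left ?_ _
      push_cast
      exact natCast_dvd_natCast' (hq.dvd_choose_pow hk0.ne' hk'.ne)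
  · exact dvd_zero _

/-- Frobenius congruence for an element with symmetric rotation part. -/
theorem rp_pow_push {q : ℕ} (hq : q.Prime) (h2 : q ≠ 2) (f : El m)
    (hf : rev (rp f) = rp f) (L : ℕ) (j : ZMod m) :
    (q : ℤ) ∣ (f ^ q ^ L).coeff (r j) - ∑ i with q ^ L • i = j, f.coeff (r i) := by
  have h := dvd_add (rp_pow_prime_pow hq h2 f hf L) (Sc.pow_prime_pow hq L (rp f))
  rw [sub_add_sub_cancel, Sc.dvd_iff_coeff] at h
  simpa [push_coeff] using h j

/-- Elements of the rotation ring vanishing outside a subgroup, up to a modulus. -/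
def SuppMod (P : AddSubgroup (ZMod m)) (d : ℤ) (x : Sc m) : Prop :=
  ∀ j, j ∉ P → d ∣ x.coeff j

theorem SuppMod.mul {P : AddSubgroup (ZMod m)} {d : ℤ} {x y : Sc m} (hx : SuppMod P d x)
    (hy : SuppMod P d y) : SuppMod P d (x * y) := by
  intro j hj
  rw [Sc.coeff_mul']
  refine Finset.dvd_sum fun i _ => ?_
  by_cases hi : i ∈ P
  · exact dvd_mul_of_dvd_right (hy _ fun h => hj (by simpa using P.add_mem h hi)) _
  · exact dvd_mul_of_dvd_left (hx _ hi) _

theorem SuppMod.pow {P : AddSubgroup (ZMod m)} {d : ℤ} {x : Sc m} (hx : SuppMod P d x) (n : ℕ) :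
    SuppMod P d (x ^ n) := by
  classical
  induction n with
  | zero =>
    intro j hj
    rw [pow_zero, AddMonoidAlgebra.one_def, AddMonoidAlgebra.coeff_single,
      Finsupp.single_eq_of_ne (fun h : j = 0 => hj (h ▸ P.zero_mem))]
    exact dvd_zero _
  | succ n ih => rw [pow_succ]; exact ih.mul hx

theorem pow_suppMod {q : ℕ} (hq : q.Prime) {P : AddSubgroup (ZMod m)} {a : ℕ}
    (hP : ∀ i, q ^ a • i ∈ P) (y : Sc m) {v : ℕ} (hv : a ≤ v) :
    SuppMod P ((q : ℤ) ^ (v - a + 1)) (y ^ q ^ v) := by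
  set z := push (q ^ a) y
  have hz : SuppMod P 0 z := by
    intro j hj
    refine zero_dvd_iff.mpr (Finset.sum_eq_zero fun i hi => ?_)
    exact absurd ((Finset.mem_filter.mp hi).2 ▸ hP i) hj
  have h0 : (q : Sc m) ∣ y ^ q ^ a - z := by simpa using Sc.pow_prime_pow hq a y
  have h1 := dvd_sub_pow_of_dvd_sub h0 (v - a)
  rw [← pow_mul, ← pow_add, Nat.add_sub_cancel' hv] at h1
  have h2 : (((q : ℤ) ^ (v - a + 1) : ℤ) : Sc m) ∣ y ^ q ^ v - z ^ q ^ (v - a) := by simpa using h1
  rw [Sc.dvd_iff_coeff] at h2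
  intro j hj
  have h3 := h2 j
  rw [AddMonoidAlgebra.coeff_sub, Finsupp.sub_apply,
    zero_dvd_iff.mp (hz.pow _ j hj), sub_zero] at h3
  exact h3

/-- High prime power exponents concentrate the rotation part on the `q`-regular rotations. -/
theorem rp_pow_suppMod {q : ℕ} (hq : q.Prime) (h2 : q ≠ 2) (f : El m) (hf : rev (rp f) = rp f)
    {P : AddSubgroup (ZMod m)} {a : ℕ} (hP : ∀ i, q ^ a • i ∈ P) (ha : 1 ≤ a) (L : ℕ) :
    SuppMod P ((q : ℤ) ^ (L + 1 - a)) (rp (f ^ q ^ L)) := by
  intro j hj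
  rw [rp_pow f hf, AddMonoidAlgebra.coeff_sum, Finset.sum_apply']
  refine Finset.dvd_sum fun k hk => ?_
  split_ifs with hev
  swap
  · simp
  rcases Nat.eq_zero_or_pos k with rfl | hk0
  · have : Odd (q ^ L) := (hq.odd_of_ne_two h2).pow
    rw [Nat.sub_zero] at hev
    exact absurd hev (Nat.not_even_iff_odd.mpr this)
  obtain ⟨v, k', hk', hkv⟩ := Nat.exists_eq_pow_mul_and_not_dvd hk0.ne' q hq.ne_one
  have hkn : k ≤ q ^ L := by have := Finset.mem_range.mp hk; omega
  have hvL : v ≤ L := by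
    have : q ^ v ≤ q ^ L := le_trans (Nat.le_of_dvd hk0 (hkv ▸ dvd_mul_right _ _)) hkn
    exact (Nat.pow_le_pow_iff_right hq.one_lt).mp this
  obtain ⟨l, hl⟩ := hev
  have hln : (q ^ L - k) / 2 = l := by omega
  have hdl : q ^ v ∣ l := by
    have h3 : q ^ v ∣ 2 * l := by
      rw [two_mul, ← hl]
      exact Nat.dvd_sub (pow_dvd_pow q hvL) (hkv ▸ dvd_mul_right _ _)
    exact (((Nat.coprime_primes hq Nat.prime_two).mpr h2).pow_left v).dvd_of_dvd_mul_left h3
  obtain ⟨l', hl'⟩ := hdl
  rw [hln, hl', hkv, mul_comm (q ^ v) k', mul_comm (q ^ v) l', pow_mul, pow_mul, ← mul_pow,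
    ← nsmul_eq_mul, AddMonoidAlgebra.coeff_smul, Finsupp.smul_apply, nsmul_eq_mul, mul_comm k']
  obtain ⟨c, hc⟩ := pow_sub_dvd_choose hq hkv hk' hvL
  rw [← hkv, hc]
  push_cast
  rcases lt_or_ge v a with hva | hva
  · exact dvd_mul_of_dvd_left (dvd_mul_of_dvd_left (pow_dvd_pow _ (by omega)) _) _
  · have h4 := pow_suppMod hq hP (rp f ^ k' * nu f ^ l') hva j hj
    rw [show L + 1 - a = (L - v) + (v - a + 1) by omega, pow_add, mul_assoc]
    exact mul_dvd_mul_left _ (dvd_mul_of_dvd_right h4 _)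

end Cfsg.Lib.DihedralB
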