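import Mathlib

/-!
The integral group ring of a dihedral group: rotation and reflection parts, and the expansion of
powers of an element whose rotation part is symmetric.
-/

set_option autoImplicit false
set_option linter.unusedSectionVars false

namespace Cfsg.Lib.DihedralB

open DihedralGroup Finset

/-- The integral group ring of the dihedral group of order `2 * m`. -/
abbrev El (m : ℕ) := MonoidAlgebra ℤ (DihedralGroup m)

/-- The integral group ring of the rotations. -/
abbrev Sc (m : ℕ) := AddMonoidAlgebra ℤ (ZMod m)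

variable {m : ℕ} [NeZero m]

/-- Element of the group ring with given coefficients. -/
noncomputable def mkEl (f : DihedralGroup m → ℤ) : El m :=
  MonoidAlgebra.ofCoeff (Finsupp.equivFunOnFinite.symm f)

/-- Element of the group ring of rotations with given coefficients. -/
noncomputable def mkSc (f : ZMod m → ℤ) : Sc m :=
  AddMonoidAlgebra.ofCoeff (Finsupp.equivFunOnFinite.symm f)

@[simp] theorem mkEl_coeff (f : DihedralGroup m → ℤ) (x : DihedralGroup m) :
    (mkEl f).coeff x = f x := rfl

@[simp] theorem mkSc_coeff (f : ZMod m → ℤ) (i : ZMod m) : (mkSc f).coeff i = f i := rfl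

theorem El.ext' {f g : El m} (hr : ∀ i, f.coeff (r i) = g.coeff (r i))
    (hs : ∀ i, f.coeff (sr i) = g.coeff (sr i)) : f = g := by
  refine MonoidAlgebra.ext (Finsupp.ext fun x => ?_)
  rcases x with i | i
  · exact hr i
  · exact hs i

theorem Sc.ext' {f g : Sc m} (h : ∀ i, f.coeff i = g.coeff i) : f = g :=
  AddMonoidAlgebra.ext (Finsupp.ext h)

theorem sum_dihedral {M : Type*} [AddCommMonoid M] (φ : DihedralGroup m → M) :
    ∑ x, φ x = (∑ i, φ (r i)) + ∑ i, φ (sr i) := by
  let e : ZMod m ⊕ ZMod m ≃ DihedralGroup m :=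
    { toFun := Sum.elim r sr
      invFun := fun x => match x with | r i => Sum.inl i | sr i => Sum.inr i
      left_inv := by rintro (i | i) <;> rfl
      right_inv := by rintro (i | i) <;> rfl }
  rw [← e.sum_comp, Fintype.sum_sum_type]
  rfl

theorem coeff_mul' (f g : El m) (x : DihedralGroup m) :
    (f * g).coeff x = ∑ a, f.coeff a * g.coeff (a⁻¹ * x) := by
  rw [MonoidAlgebra.coeff_mul_apply_left, Finsupp.sum_fintype]
  intro a; simp

theorem coeff_mul_r (f g : El m) (j : ZMod m) :
    (f * g).coeff (r j) = (∑ i, f.coeff (r i) * g.coeff (r (j - i))) +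
      ∑ i, f.coeff (sr i) * g.coeff (sr (i + j)) := by
  rw [coeff_mul', sum_dihedral]
  simp [sub_eq_add_neg, add_comm]

theorem coeff_mul_sr (f g : El m) (j : ZMod m) :
    (f * g).coeff (sr j) = (∑ i, f.coeff (r i) * g.coeff (sr (j + i))) +
      ∑ i, f.coeff (sr i) * g.coeff (r (j - i)) := by
  rw [coeff_mul', sum_dihedral]
  simp [sub_eq_add_neg, add_comm]

theorem Sc.coeff_mul' (f g : Sc m) (j : ZMod m) :
    (f * g).coeff j = ∑ i, f.coeff i * g.coeff (j - i) := by
  rw [AddMonoidAlgebra.coeff_mul_apply_left, Finsupp.sum_fintype]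
  · simp [sub_eq_add_neg, add_comm]
  · intro a; simp

/-- The rotation part of an element. -/
noncomputable def rp (f : El m) : Sc m := mkSc fun i => f.coeff (r i)

/-- The reflection part of an element, read at `sr i`. -/
noncomputable def sp (f : El m) : Sc m := mkSc fun i => f.coeff (sr i)

@[simp] theorem rp_coeff (f : El m) (i : ZMod m) : (rp f).coeff i = f.coeff (r i) := rfl
@[simp] theorem sp_coeff (f : El m) (i : ZMod m) : (sp f).coeff i = f.coeff (sr i) := rfl

/-- The image of the reversal map on the rotations. -/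
noncomputable def rev (f : Sc m) : Sc m := mkSc fun i => f.coeff (-i)

@[simp] theorem rev_coeff (f : Sc m) (i : ZMod m) : (rev f).coeff i = f.coeff (-i) := rfl

theorem rp_mul (f g : El m) : rp (f * g) = rp f * rp g + rev (sp f) * sp g := by
  refine Sc.ext' fun j => ?_
  rw [rp_coeff, coeff_mul_r, AddMonoidAlgebra.coeff_add, Finsupp.add_apply, Sc.coeff_mul',
    Sc.coeff_mul']
  congr 1
  refine Fintype.sum_equiv (Equiv.neg _) _ _ fun i => ?_
  simp [sub_eq_add_neg, add_comm]

theorem sp_mul (f g : El m) : sp (f * g) = rev (rp f) * sp g + sp f * rp g := by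
  refine Sc.ext' fun j => ?_
  rw [sp_coeff, coeff_mul_sr, AddMonoidAlgebra.coeff_add, Finsupp.add_apply, Sc.coeff_mul',
    Sc.coeff_mul']
  congr 1
  refine Fintype.sum_equiv (Equiv.neg _) _ _ fun i => ?_
  simp [sub_eq_add_neg, add_comm]

theorem El.eq_of_parts {f g : El m} (h1 : rp f = rp g) (h2 : sp f = sp g) : f = g :=
  El.ext' (fun i => congrArg (fun s : Sc m => s.coeff i) h1)
    (fun i => congrArg (fun s : Sc m => s.coeff i) h2)

@[simp] theorem rp_one : rp (1 : El m) = 1 := by
  classical
  refine Sc.ext' fun j => ?_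
  simp only [rp_coeff, MonoidAlgebra.one_def, AddMonoidAlgebra.one_def, MonoidAlgebra.coeff_single,
    AddMonoidAlgebra.coeff_single, Finsupp.single_apply, ← r_zero, r.injEq]

@[simp] theorem sp_one : sp (1 : El m) = 0 := by
  refine Sc.ext' fun j => ?_
  simp only [sp_coeff, MonoidAlgebra.one_def, MonoidAlgebra.coeff_single, AddMonoidAlgebra.coeff_zero,
    Finsupp.zero_apply]
  exact Finsupp.single_eq_of_ne (by rw [DihedralGroup.one_def]; exact fun h => by cases h)

theorem rp_add (f g : El m) : rp (f + g) = rp f + rp g := Sc.ext' fun j => by simp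
theorem sp_add (f g : El m) : sp (f + g) = sp f + sp g := Sc.ext' fun j => by simp

theorem rev_one : rev (1 : Sc m) = 1 := by
  classical
  refine Sc.ext' fun j => ?_
  simp only [rev_coeff, AddMonoidAlgebra.one_def, AddMonoidAlgebra.coeff_single, Finsupp.single_apply]
  simp [eq_comm (a := (0 : ZMod m))]

theorem rev_add (f g : Sc m) : rev (f + g) = rev f + rev g := Sc.ext' fun j => by simp

theorem rev_rev (f : Sc m) : rev (rev f) = f := Sc.ext' fun j => by simp

theorem rev_zero : rev (0 : Sc m) = 0 := Sc.ext' fun j => by simp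

theorem rev_mul (f g : Sc m) : rev (f * g) = rev f * rev g := by
  refine Sc.ext' fun j => ?_
  rw [rev_coeff, Sc.coeff_mul', Sc.coeff_mul']
  refine Fintype.sum_equiv (Equiv.neg _) _ _ fun i => ?_
  simp [sub_eq_add_neg, add_comm]

/-- The element supported on the rotations with given rotation part. -/
noncomputable def rotEl (x : Sc m) : El m :=
  mkEl fun h => match h with
    | r i => x.coeff i
    | sr _ => 0

/-- The element supported on the reflections with given reflection part. -/
noncomputable def refEl (x : Sc m) : El m :=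
  mkEl fun h => match h with
    | r _ => 0
    | sr i => x.coeff i

@[simp] theorem rp_rotEl (x : Sc m) : rp (rotEl x) = x := Sc.ext' fun _ => rfl
@[simp] theorem sp_rotEl (x : Sc m) : sp (rotEl x) = 0 := Sc.ext' fun _ => rfl
@[simp] theorem rp_refEl (x : Sc m) : rp (refEl x) = 0 := Sc.ext' fun _ => rfl
@[simp] theorem sp_refEl (x : Sc m) : sp (refEl x) = x := Sc.ext' fun _ => rfl

theorem eq_rot_add_ref (f : El m) : f = rotEl (rp f) + refEl (sp f) :=
  El.eq_of_parts (by simp [rp_add]) (by simp [sp_add])

theorem rotEl_pow (x : Sc m) (n : ℕ) : rotEl x ^ n = rotEl (x ^ n) := by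
  induction n with
  | zero => exact El.eq_of_parts (by simp) (by simp)
  | succ n ih =>
    rw [pow_succ, ih, pow_succ]
    exact El.eq_of_parts (by simp [rp_mul, rev_zero]) (by simp [sp_mul])

theorem refEl_sq (x : Sc m) : refEl x * refEl x = rotEl (rev x * x) :=
  El.eq_of_parts (by simp [rp_mul]) (by simp [sp_mul, rev_zero])

theorem refEl_pow_even (x : Sc m) (l : ℕ) : refEl x ^ (2 * l) = rotEl ((rev x * x) ^ l) := by
  rw [pow_mul, pow_two, refEl_sq, rotEl_pow]

theorem refEl_pow_odd (x : Sc m) (l : ℕ) :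
    refEl x ^ (2 * l + 1) = refEl (x * (rev x * x) ^ l) := by
  rw [pow_succ', refEl_pow_even]
  exact El.eq_of_parts (by simp [rp_mul]) (by simp [sp_mul, rev_zero])

/-- The product of the two parts of the reflection part of `f`. -/
noncomputable def nu (f : El m) : Sc m := rev (sp f) * sp f

/-- Powers of an element with symmetric rotation part. -/
theorem rp_pow (f : El m) (hf : rev (rp f) = rp f) (n : ℕ) :
    rp (f ^ n) = ∑ k ∈ range (n + 1),
      if Even (n - k) then (n.choose k : Sc m) * (rp f ^ k * nu f ^ ((n - k) / 2)) else 0 := by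
  have hc : Commute (rotEl (rp f)) (refEl (sp f)) :=
    El.eq_of_parts (by simp [rp_mul, rev_zero])
      (by simp [sp_mul, rev_zero, hf, mul_comm])
  conv_lhs => rw [eq_rot_add_ref f, hc.add_pow]
  let rpHom : El m →+ Sc m := AddMonoidHom.mk' rp rp_add
  rw [show rp (∑ k ∈ range (n + 1), rotEl (rp f) ^ k * refEl (sp f) ^ (n - k) * (n.choose k : El m))
    = ∑ k ∈ range (n + 1), rp (rotEl (rp f) ^ k * refEl (sp f) ^ (n - k) * (n.choose k : El m))
    from map_sum rpHom _ _]
  refine Finset.sum_congr rfl fun k _ => ?_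
  have hsmul : ∀ (c : ℕ) (g : El m), rp (g * (c : El m)) = (c : Sc m) * rp g := by
    intro c g
    rw [← nsmul_eq_mul, ← (Nat.cast_commute c g).eq, ← nsmul_eq_mul]
    exact map_nsmul rpHom c g
  rw [hsmul, rotEl_pow]
  rcases Nat.even_or_odd (n - k) with ⟨l, hl⟩ | ⟨l, hl⟩
  · have he : n - k = 2 * l := by omega
    rw [if_pos ⟨l, hl⟩, he, refEl_pow_even, rp_mul]
    simp [nu, rev_zero]
  · rw [if_neg (Nat.not_even_iff_odd.mpr ⟨l, hl⟩), hl, refEl_pow_odd, rp_mul]
    simp [rev_zero]

end Cfsg.Lib.DihedralB
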