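import Cfsg.Agent.DihedralBGroup.Count

/-!
There is no periodic class with constant square when `m` is a power of two.
-/

set_option autoImplicit false
set_option linter.unusedSectionVars false

namespace Cfsg.Lib.DihedralB

open DihedralGroup Finset

theorem eight_aux : ∀ b0 b1 b2 b3 b4 b5 b6 b7 : Bool,
    (b0 && b4) = false → (b1 && b5) = false → (b2 && b6) = false → (b3 && b7) = false →
    b0.toNat + b1.toNat + b2.toNat + b3.toNat + b4.toNat + b5.toNat + b6.toNat + b7.toNat = 4 →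
    (b0 && b1).toNat + (b1 && b2).toNat + (b2 && b3).toNat + (b3 && b4).toNat + (b4 && b5).toNat +
      (b5 && b6).toNat + (b6 && b7).toNat + (b7 && b0).toNat ≠ 2 := by
  intro b0 b1 b2 b3 b4 b5 b6 b7
  cases b0 <;> cases b1 <;> cases b2 <;> cases b3 <;> cases b4 <;> cases b5 <;> cases b6 <;>
    cases b7 <;> decide

variable {m : ℕ} [NeZero m]

theorem addOrderOf_two_pow {s : ℕ} (hm : m = 2 ^ s) (x : ZMod m) :
    ∃ a, addOrderOf x = 2 ^ a := by
  have h1 : addOrderOf x ∣ 2 ^ s := hm ▸ addOrderOf_dvd_iff_nsmul_eq_zero.mpr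
    (by rw [nsmul_eq_mul, ZMod.natCast_self, zero_mul])
  obtain ⟨t, -, ht⟩ := (Nat.dvd_prime_pow Nat.prime_two).mp h1
  exact ⟨t, ht⟩

theorem addOrderOf_eq_of_nsmul {s : ℕ} (hm : m = 2 ^ s) {x : ZMod m} {k : ℕ} (h : 2 ^ k • x ≠ 0) :
    addOrderOf x = 2 ^ k * addOrderOf (2 ^ k • x) := by
  obtain ⟨a, ha⟩ := addOrderOf_two_pow hm x
  refine addOrderOf_eq_mul ?_
  rw [ha]
  refine pow_dvd_pow 2 (not_lt.mp fun hlt => h ?_)
  rw [← addOrderOf_dvd_iff_nsmul_eq_zero, ha]
  exact pow_dvd_pow 2 hlt.le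

namespace Periodic2

variable (D : Periodic2 m 2)

theorem coeff_int (n : ℤ) (x : ZMod m) : (n : Sc m).coeff x = if x = 0 then n else 0 := by
  classical
  rw [← zsmul_one n, AddMonoidAlgebra.coeff_smul, Finsupp.smul_apply, AddMonoidAlgebra.one_def,
    AddMonoidAlgebra.coeff_single, Finsupp.single_apply]
  simp [eq_comm (a := (0 : ZMod m))]

theorem sum_J_mul (x : Sc m) : mkSc (fun _ => 1) * x = ((∑ i, x.coeff i : ℤ) : Sc m) * mkSc (fun _ => 1) := by
  refine Sc.ext' fun j => ?_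
  rw [Sc.coeff_mul', ← zsmul_eq_mul, AddMonoidAlgebra.coeff_smul, Finsupp.smul_apply]
  simp only [mkSc_coeff, one_mul, smul_eq_mul, mul_one]
  exact Fintype.sum_equiv (Equiv.subLeft j) _ _ fun _ => rfl

/-- The square root of `a + b - μ` is a power of two. -/
theorem exists_subgroup {s : ℕ} (hm : m = 2 ^ s) : ∃ (K : AddSubgroup (ZMod m)) (c : ℕ),
    c = Nat.card K ∧ 2 ≤ c ∧ 2 * c ≤ m ∧ D.a + D.b - D.μ = (c : ℤ) ^ 2 ∧
    ∀ i h, h ∈ K → D.A (i + h) = D.A i := by
  classical
  have hex : (Finset.univ.filter fun i => D.A i = 1).Nonempty := by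
    obtain ⟨i, -, hi⟩ := Finset.exists_ne_zero_of_sum_ne_zero D.A_pos.ne'
    exact ⟨i, Finset.mem_filter.mpr ⟨Finset.mem_univ _, (D.A01 i).resolve_left hi⟩⟩
  obtain ⟨i0, hi0, hmin⟩ := Finset.exists_min_image _ (fun i : ZMod m => addOrderOf i) hex
  have hA0 : D.A i0 = 1 := (Finset.mem_filter.mp hi0).2
  have hmin' : ∀ i, D.A i = 1 → addOrderOf i0 ≤ addOrderOf i := fun i hi =>
    hmin i (Finset.mem_filter.mpr ⟨Finset.mem_univ _, hi⟩)
  have htor : ∀ h, 2 • h = 0 → D.A h = 0 := fun h hh => by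
    have := D.A_per 0 h hh
    rwa [zero_add, D.A_zero] at this
  obtain ⟨j1, hj1⟩ := addOrderOf_two_pow hm i0
  have hj2 : 2 ≤ j1 := by
    by_contra hlt
    have : 2 • i0 = 0 := by
      rw [← addOrderOf_dvd_iff_nsmul_eq_zero, hj1]
      exact (pow_dvd_pow 2 (show j1 ≤ 1 by omega)).trans (by norm_num)
    rw [htor _ this] at hA0
    exact zero_ne_one hA0
  obtain ⟨j, rfl⟩ : ∃ j, j1 = j + 1 := ⟨j1 - 1, by omega⟩
  set K : AddSubgroup (ZMod m) := (nsmulAddMonoidHom (2 ^ j)).ker with hK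
  have hmem : ∀ x, x ∈ K ↔ 2 ^ j • x = 0 := fun x => AddMonoidHom.mem_ker
  have hi0K : i0 ∉ K := by
    rw [hmem, ← addOrderOf_dvd_iff_nsmul_eq_zero, hj1]
    intro h
    have := (Nat.pow_dvd_pow_iff_le_right (by norm_num : 1 < 2)).mp h
    omega
  have hi02 : 2 ^ (j + 1) • i0 = 0 := by rw [← hj1, addOrderOf_nsmul_eq_zero]
  -- the unique involution
  have huniq : ∀ x y : ZMod m, 2 • x = 0 → x ≠ 0 → 2 • y = 0 → y ≠ 0 → x = y := by
    intro x y hx hx0 hy hy0
    by_contra hne
    have h2m : 2 ∣ m := by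
      have : addOrderOf x = 2 := addOrderOf_eq_prime hx hx0
      rw [← this, addOrderOf_dvd_iff_nsmul_eq_zero, nsmul_eq_mul, ZMod.natCast_self, zero_mul]
    have hsub : ({0, x, y} : Finset (ZMod m)) ⊆ Finset.univ.filter fun h : ZMod m => 2 • h = 0 := by
      intro z hz
      simp only [Finset.mem_insert, Finset.mem_singleton] at hz
      refine Finset.mem_filter.mpr ⟨Finset.mem_univ _, ?_⟩
      rcases hz with rfl | rfl | rfl
      · exact smul_zero _
      · exact hx
      · exact hy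
    have h3 := Finset.card_le_card hsub
    rw [card_torsion Nat.prime_two h2m, Finset.card_eq_three.mpr
      ⟨0, x, y, hx0.symm, hy0.symm, hne, rfl⟩] at h3
    omega
  have hG2 : ∀ x, 2 ^ (j + 1) • x = 0 → x ∉ K → x - i0 ∈ K := by
    intro x hx hxK
    rw [hmem, smul_sub, sub_eq_zero]
    refine huniq _ _ ?_ (fun h => hxK ((hmem x).mpr h)) ?_ (fun h => hi0K ((hmem i0).mpr h))
    · rwa [smul_smul, ← pow_succ']
    · rwa [smul_smul, ← pow_succ']
  have hKG : ∀ x, x ∈ K → 2 ^ (j + 1) • x = 0 := fun x hx => by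
    rw [pow_succ', ← smul_smul, (hmem x).mp hx, smul_zero]
  have hLnot : ∀ x, x - i0 ∈ K → x ∉ K := fun x h hx => hi0K (by
    have := K.sub_mem hx h
    rwa [sub_sub_cancel] at this)
  have hAK : ∀ x, x ∈ K → D.A x = 0 := by
    intro x hx
    refine (D.A01 x).resolve_right fun h1 => ?_
    have h2 := hmin' x h1
    have h3 : addOrderOf x ≤ 2 ^ j := Nat.le_of_dvd (by positivity)
      (addOrderOf_dvd_iff_nsmul_eq_zero.mpr ((hmem x).mp hx))
    rw [hj1, pow_succ] at h2
    have : 0 < 2 ^ j := by positivity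
    omega
  have hAL : ∀ x, x - i0 ∈ K → D.A x = 1 := by
    intro x hx
    rw [← hA0]
    refine D.A_ord _ _ ?_
    have h1 : 2 ^ j • x = 2 ^ j • i0 := by
      have := (hmem _).mp hx
      rwa [smul_sub, sub_eq_zero] at this
    have hne : 2 ^ j • i0 ≠ 0 := fun h => hi0K ((hmem i0).mpr h)
    rw [addOrderOf_eq_of_nsmul hm (h1 ▸ hne), addOrderOf_eq_of_nsmul hm hne, h1]
  have hbig : ∀ i h, 2 ^ (j + 1) • i ≠ 0 → 2 ^ (j + 1) • h = 0 → D.A (i + h) = D.A i := by
    intro i h hi hh
    refine D.A_ord _ _ ?_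
    have h1 : 2 ^ (j + 1) • (i + h) = 2 ^ (j + 1) • i := by rw [smul_add, hh, add_zero]
    rw [addOrderOf_eq_of_nsmul hm (k := j + 1) (by rwa [h1]), addOrderOf_eq_of_nsmul hm hi, h1]
  have hKper : ∀ i h, h ∈ K → D.A (i + h) = D.A i := by
    intro i h hh
    by_cases hi : 2 ^ (j + 1) • i = 0
    · by_cases hiK : i ∈ K
      · rw [hAK _ hiK, hAK _ (K.add_mem hiK hh)]
      · have h1 := hG2 i hi hiK
        rw [hAL _ h1, hAL _ (by rw [add_sub_right_comm]; exact K.add_mem h1 hh)]
    · exact hbig i h hi (hKG h hh)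
  set c := Nat.card K with hc
  refine ⟨K, c, rfl, ?_, ?_, ?_, hKper⟩
  · obtain ⟨w, hw⟩ := exists_addOrderOf (m := m) Nat.prime_two (by
      rw [hm]; refine dvd_pow_self 2 ?_
      rintro rfl
      have : addOrderOf i0 ∣ 1 := by
        have : Subsingleton (ZMod m) := ZMod.subsingleton_iff.mpr (by rw [hm, pow_zero])
        rw [addOrderOf_dvd_iff_nsmul_eq_zero]
        exact Subsingleton.elim _ _
      rw [hj1] at this
      have h2 := Nat.dvd_one.mp this
      have : 1 < 2 ^ (j + 1) := Nat.one_lt_two_pow (by omega)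
      omega)
    have hwK : w ∈ K := by
      rw [hmem, ← addOrderOf_dvd_iff_nsmul_eq_zero, hw]
      exact dvd_pow_self 2 (by omega)
    refine Finite.one_lt_card_iff_nontrivial.mpr ⟨⟨⟨w, hwK⟩, 0, fun h => ?_⟩⟩
    have : w = 0 := congrArg Subtype.val h
    rw [this, addOrderOf_zero] at hw
    omega
  · have h1 := AddSubgroup.card_mul_index K
    have h2 : K.index ≠ 0 := AddSubgroup.index_ne_zero_of_finite
    have h3 : K.index ≠ 1 := fun h => hi0K (AddSubgroup.index_eq_one.mp h ▸ AddSubgroup.mem_top _)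
    rw [Nat.card_zmod] at h1
    rw [← h1, mul_comm 2]
    exact Nat.mul_le_mul_left _ (by omega)
  · set e : ZMod m → ℤ := fun x => (if x ∈ K then 1 else 0) - (if x - i0 ∈ K then 1 else 0) with he
    have hi0i0 : i0 + i0 ∈ K := by
      rw [hmem, ← two_nsmul, smul_smul, ← pow_succ, hi02]
    have e_K : ∀ x h, h ∈ K → e (x + h) = e x := by
      intro x h hh
      have h1 : x + h ∈ K ↔ x ∈ K := K.add_mem_cancel_right hh
      have h2 : x + h - i0 ∈ K ↔ x - i0 ∈ K := by
        rw [add_sub_right_comm]; exact K.add_mem_cancel_right hh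
      simp only [he, h1, h2]
    have e_i0 : ∀ x, e (x - i0) = -e x := by
      intro x
      have h1 : x - i0 - i0 ∈ K ↔ x ∈ K := by
        rw [show x - i0 - i0 = x + -(i0 + i0) by ring]
        exact K.add_mem_cancel_right (K.neg_mem hi0i0)
      simp only [he, h1]
      ring
    have hconv : ∀ x, ∑ i, D.A i * e (x - i) = -(c : ℤ) * e x := by
      intro x
      set R : ZMod m → ℤ := fun i => D.A i - if i - i0 ∈ K then 1 else 0 with hR
      have hRper : ∀ i, R (i + i0) = R i := by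
        intro i
        by_cases hi : 2 ^ (j + 1) • i = 0
        · have hz : ∀ y, 2 ^ (j + 1) • y = 0 → R y = 0 := by
            intro y hy
            by_cases hyK : y ∈ K
            · simp only [hR, hAK y hyK, if_neg fun h => hLnot y h hyK]; norm_num
            · simp only [hR, hAL y (hG2 y hy hyK), if_pos (hG2 y hy hyK)]; norm_num
          rw [hz i hi, hz _ (by rw [smul_add, hi, hi02, add_zero])]
        · have h1 : i - i0 ∉ K := fun h => hi (by
            have := hKG _ h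
            rwa [smul_sub, hi02, sub_zero] at this)
          have h2 : i + i0 - i0 ∉ K := by
            rw [add_sub_cancel_right]; exact fun h => hi (hKG _ h)
          simp only [hR, hbig i i0 hi hi02, if_neg h1, if_neg h2]
      have hR0 : ∑ i, R i * e (x - i) = 0 := by
        have h1 : ∑ i, R i * e (x - i) = -∑ i, R i * e (x - i) := by
          refine (Equiv.sum_comp (Equiv.addRight i0) fun i => R i * e (x - i)).symm.trans ?_
          rw [← Finset.sum_neg_distrib]
          refine Finset.sum_congr rfl fun i _ => ?_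
          rw [Equiv.coe_addRight, hRper, sub_add_eq_sub_sub, e_i0, mul_neg]
        linarith
      have hL : ∑ i, (if i - i0 ∈ K then (1 : ℤ) else 0) * e (x - i) = -(c : ℤ) * e x := by
        refine (Equiv.sum_comp (Equiv.addRight i0)
          fun i => (if i - i0 ∈ K then (1 : ℤ) else 0) * e (x - i)).symm.trans ?_
        rw [Finset.sum_congr rfl (g := fun κ => if κ ∈ K then -e x else 0) fun κ _ => ?_,
          ← Finset.sum_filter, Finset.sum_const, nsmul_eq_mul, neg_mul, mul_neg, hc,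
          Nat.card_eq_fintype_card, Fintype.card_subtype]
        rw [Equiv.coe_addRight, add_sub_cancel_right]
        split_ifs with hκ
        · rw [one_mul, sub_add_eq_sub_sub, e_i0, sub_eq_add_neg x, e_K _ _ (K.neg_mem hκ)]
        · rw [zero_mul]
      rw [← hL, ← sub_eq_zero, ← Finset.sum_sub_distrib]
      refine Eq.trans (Finset.sum_congr rfl fun i _ => ?_) hR0
      simp only [hR]; ring
    have he0 : ∑ i, e i = 0 := by
      have : ∑ i, e i = -∑ i, e i := by
        rw [← Finset.sum_neg_distrib]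
        exact Fintype.sum_equiv (Equiv.subRight i0) _ _ fun i => by
          rw [Equiv.subRight_apply, e_i0, neg_neg]
      linarith
    set α : Sc m := mkSc D.A
    set β : Sc m := mkSc D.B
    set J : Sc m := mkSc fun _ => 1
    set E : Sc m := mkSc e
    set n := D.a + D.b - D.μ with hn
    have k1 : α * α + rev β * β = (n : Sc m) + (D.μ : Sc m) * J := by
      refine Sc.ext' fun x => ?_
      rw [AddMonoidAlgebra.coeff_add, Finsupp.add_apply, Sc.coeff_mul', Sc.coeff_mul',
        AddMonoidAlgebra.coeff_add, Finsupp.add_apply, ← zsmul_eq_mul (a := J),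
        AddMonoidAlgebra.coeff_smul, Finsupp.smul_apply]
      have e1 : ∑ i, (rev β).coeff i * β.coeff (x - i) = ∑ i, D.B i * D.B (i + x) :=
        Fintype.sum_equiv (Equiv.neg _) _ _ fun i => by
          simp only [rev_coeff, β, mkSc_coeff, Equiv.neg_apply]
          congr 2; ring
      rw [e1]
      simp only [α, J, mkSc_coeff, smul_eq_mul, mul_one, coeff_int]
      rcases eq_or_ne x 0 with rfl | hx
      · simp only [zero_sub, D.A_neg, D.A_mul_self, add_zero, D.B_mul_self, if_true,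
          hn, a, b]
        ring
      · rw [if_neg hx, zero_add]
        exact D.sq_rot x hx
    have k2 : 2 * (α * β) = (D.μ : Sc m) * J := by
      refine Sc.ext' fun x => ?_
      rw [two_mul, AddMonoidAlgebra.coeff_add, Finsupp.add_apply, ← zsmul_eq_mul (a := J),
        AddMonoidAlgebra.coeff_smul, Finsupp.smul_apply]
      simp only [J, mkSc_coeff, smul_eq_mul, mul_one]
      rw [← D.sq_ref x]
      congr 1
      · rw [Sc.coeff_mul']
        exact Fintype.sum_equiv (Equiv.neg _) _ _ fun i => by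
          simp only [α, β, mkSc_coeff, Equiv.neg_apply, D.A_neg]
          congr 2; ring
      · rw [mul_comm α β, Sc.coeff_mul']
        rfl
    have k3 : J * rev β = (D.b : Sc m) * J := by
      rw [sum_J_mul]
      congr 2
      exact Fintype.sum_equiv (Equiv.neg _) _ _ fun i => rfl
    have k4 : α * J = (D.a : Sc m) * J := by rw [mul_comm, sum_J_mul]; rfl
    have k5 : α * E = -(c : Sc m) * E := by
      refine Sc.ext' fun x => ?_
      rw [Sc.coeff_mul', neg_mul, ← nsmul_eq_mul, AddMonoidAlgebra.coeff_neg, Finsupp.neg_apply,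
        AddMonoidAlgebra.coeff_smul, Finsupp.smul_apply, nsmul_eq_mul]
      simp only [α, E, mkSc_coeff]
      rw [hconv x, neg_mul]
    have k6 : J * E = 0 := by
      rw [sum_J_mul, show ∑ i, E.coeff i = 0 from he0, Int.cast_zero, zero_mul]
    have k7 : ((2 * c * (n - (c : ℤ) ^ 2) : ℤ) : Sc m) * E = 0 := by
      have k8 : 2 * α ^ 3 = 2 * (n : Sc m) * α +
          (2 * (D.μ : Sc m) * (D.a : Sc m) - (D.μ : Sc m) * (D.b : Sc m)) * J := by
        linear_combination (2 * α) * k1 - rev β * k2 + 2 * (D.μ : Sc m) * k4 - (D.μ : Sc m) * k3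
      have k9 : α ^ 3 * E = -(c : Sc m) ^ 3 * E := by
        linear_combination (α ^ 2 - (c : Sc m) * α + (c : Sc m) ^ 2) * k5
      push_cast
      linear_combination E * k8 - 2 * k9 + 2 * (n : Sc m) * k5 +
        (2 * (D.μ : Sc m) * (D.a : Sc m) - (D.μ : Sc m) * (D.b : Sc m)) * k6
    have k10 := congrArg (fun v : Sc m => v.coeff 0) k7
    rw [← zsmul_eq_mul] at k10
    simp only [AddMonoidAlgebra.coeff_smul, Finsupp.smul_apply, smul_eq_mul,
      AddMonoidAlgebra.coeff_zero, Finsupp.zero_apply, E, mkSc_coeff, he, zero_sub] at k10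
    rw [if_pos K.zero_mem, if_neg (fun h => hi0K (by simpa using K.neg_mem h)), sub_zero,
      mul_one] at k10
    have hc0 : (c : ℤ) ≠ 0 := by
      rw [hc]; exact_mod_cast (Nat.card_pos (α := K)).ne'
    have : n - (c : ℤ) ^ 2 = 0 := by
      rcases mul_eq_zero.mp k10 with h | h
      · rcases mul_eq_zero.mp h with h | h
        · norm_num at h
        · exact absurd h hc0
      · exact h
    linarith

theorem two_pow_arith {t r : ℕ} (ht : 1 ≤ t) {e : ℕ}
    (h : 4 * ((e : ℤ) * (e + 1)) = 2 ^ r * (2 ^ r - 2 * 2 ^ t))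
    (he : 2 * e + 1 < 2 ^ r) : e = 0 ∧ r = t + 1 := by
  have hr : t + 1 ≤ r := by
    by_contra hlt
    have h1 : (2 : ℤ) ^ r * 2 ≤ 2 * 2 ^ t := by
      rw [← pow_succ, ← pow_succ']
      exact pow_le_pow_right₀ (by norm_num) (by omega)
    have h2 : (0 : ℤ) < 2 ^ r := by positivity
    have h3 : (0 : ℤ) ≤ (e : ℤ) * (e + 1) := by positivity
    nlinarith
  obtain ⟨d, rfl⟩ := Nat.exists_eq_add_of_le hr
  rcases Nat.eq_zero_or_pos e with rfl | he0
  · refine ⟨rfl, ?_⟩
    simp only [Nat.cast_zero, zero_mul, mul_zero] at h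
    rcases mul_eq_zero.mp h.symm with h1 | h1
    · exact absurd h1 (by positivity)
    · have h2 : (2 : ℤ) ^ (t + 1 + d) = 2 ^ (t + 1) := by rw [pow_succ' 2 t]; linarith
      exact Nat.pow_right_injective (le_refl 2) (by exact_mod_cast h2)
  exfalso
  have h1 : (2 : ℤ) ^ (t + d + t) ∣ (e : ℤ) * (e + 1) := by
    refine ⟨2 ^ d - 1, ?_⟩
    refine mul_left_cancel₀ (show (4 : ℤ) ≠ 0 by norm_num) (h.trans ?_)
    rw [pow_add, pow_add, pow_add, pow_add, pow_one]
    ring
  have h2 : 2 ^ (t + d + t) ∣ e * (e + 1) := by exact_mod_cast h1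
  have h3 : 2 ^ (t + 1 + d) ≤ 2 ^ (t + d + t) := Nat.pow_le_pow_right (by norm_num) (by omega)
  rcases Nat.even_or_odd e with hev | hodd
  · have : Nat.Coprime (2 ^ (t + d + t)) (e + 1) :=
      ((Nat.prime_two.coprime_iff_not_dvd).mpr (by rintro ⟨l, hl⟩; obtain ⟨l', hl'⟩ := hev; omega)).pow_left _
    have := Nat.le_of_dvd he0 (this.dvd_of_dvd_mul_right h2)
    omega
  · have : Nat.Coprime (2 ^ (t + d + t)) e :=
      ((Nat.prime_two.coprime_iff_not_dvd).mpr (by rintro ⟨l, hl⟩; obtain ⟨l', hl'⟩ := hodd; omega)).pow_left _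
    have := Nat.le_of_dvd (by omega) (this.dvd_of_dvd_mul_left h2)
    omega

theorem false_of_two (D : Periodic2 m 2) {s : ℕ} (hm : m = 2 ^ s) : False := by
  classical
  obtain ⟨K, c, hc, hc2, hcm, hn, hKper⟩ := D.exists_subgroup hm
  have h2m : 2 ∣ m := by
    rw [hm]
    refine dvd_pow_self 2 ?_
    rintro rfl
    rw [pow_zero] at hm
    omega
  have hle := D.coset_le Nat.prime_two h2m
  have hmu := D.mul_eq
  have hd := D.diff_eq
  have hdvd : c ∣ 2 ^ s := by
    rw [← hm, hc]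
    have := AddSubgroup.card_addSubgroup_dvd_card K
    rwa [Nat.card_zmod] at this
  obtain ⟨t, hts, rfl⟩ := (Nat.dvd_prime_pow Nat.prime_two).mp hdvd
  have ht : 1 ≤ t := by
    rcases Nat.eq_zero_or_pos t with rfl | h
    · simp at hc2
    · exact h
  obtain ⟨r, rfl⟩ := Nat.exists_eq_add_of_le hts
  have hM : (m : ℤ) = 2 ^ t * 2 ^ r := by rw [hm, pow_add]; push_cast; rfl
  push_cast at hn hle
  set d := D.a - D.b with hdd
  set y := (m : ℤ) - 2 * D.b with hy
  have hM0 : (0 : ℤ) < m := by exact_mod_cast NeZero.pos m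
  have hdy : d * y ≤ 0 := by nlinarith [hle, hmu]
  have hd2 : d ^ 2 = (2 ^ t) ^ 2 := by
    rw [← hn]
    refine mul_left_cancel₀ hM0.ne' ?_
    linear_combination hd - hmu
  set u : ℤ := 2 ^ t with hu
  have hu0 : 0 < u := by positivity
  have habs : |d| = u := by
    rcases sq_eq_sq_iff_eq_or_eq_neg.mp hd2 with h | h <;> rw [h] <;> simp [abs_of_pos hu0]
  have hD : (|y| + u) ^ 2 = (m : ℤ) ^ 2 - 2 * m * u ^ 2 + u ^ 2 := by
    have h1 : |y| * u = -(d * y) := by rw [← habs, ← abs_mul, mul_comm y d, abs_of_nonpos hdy]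
    have h2 : (m : ℤ) * d ^ 2 = 2 * (D.b * (m - D.b)) + d * y := by
      rw [hy]; linear_combination hd
    have h3 := sq_abs y
    linear_combination h3 + 2 * h1 - (2 * (m : ℤ)) * hd2 + 2 * h2 + (y + (m : ℤ) - 2 * D.b) * hy
  have hdd' : u ∣ |y| + u := by
    rw [← Int.pow_dvd_pow_iff (n := 2) (by norm_num)]
    rw [hD, hM]
    exact ⟨(2 ^ r) ^ 2 - 2 * (u * 2 ^ r) + 1, by ring⟩
  obtain ⟨D', hD'⟩ := hdd'
  have hD'1 : 1 ≤ D' := by nlinarith [abs_nonneg y]
  have hD'sq : D' ^ 2 = (2 ^ r) ^ 2 - 2 * (u * 2 ^ r) + 1 := by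
    refine mul_left_cancel₀ (show u ^ 2 ≠ 0 by positivity) ?_
    rw [← mul_pow, ← hD', hD, hM]; ring
  have hr0 : 1 ≤ r := by
    rcases Nat.eq_zero_or_pos r with rfl | h
    · rw [hm, add_zero] at hcm
      have : 0 < 2 ^ t := by positivity
      omega
    · exact h
  have hlt : D' < 2 ^ r := by
    have : (0 : ℤ) < 2 ^ r := by positivity
    nlinarith
  obtain ⟨e, he⟩ : Odd D' := by
    rcases Int.even_or_odd D' with ⟨l, hl⟩ | h
    · exfalso
      obtain ⟨r', rfl⟩ := Nat.exists_eq_add_of_le' hr0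
      have h1 : (2 : ℤ) ∣ 1 := ⟨2 * l ^ 2 - (2 * (2 ^ r') ^ 2 - u * 2 ^ (r' + 1)), by
        rw [hl, pow_succ] at hD'sq; rw [pow_succ]; linear_combination -hD'sq⟩
      norm_num at h1
    · exact h
  have he0 : 0 ≤ e := by omega
  obtain ⟨e', rfl⟩ := Int.eq_ofNat_of_zero_le he0
  obtain ⟨rfl, hr⟩ := two_pow_arith ht (e := e') (r := r)
    (by rw [he, hu] at hD'sq; linear_combination hD'sq)
    (by exact_mod_cast (show (2 : ℤ) * e' + 1 < 2 ^ r by omega))
  subst hr
  have hy0 : y = 0 := by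
    have : |y| + u = u := by rw [hD', he]; simp
    exact abs_eq_zero.mp (by linarith)
  have hmb : (m : ℤ) = 2 * D.b := by linarith
  have hμa : D.μ = D.a := by
    refine mul_right_cancel₀ hM0.ne' ?_
    rw [← hmu, hmb]; ring
  have hbu : D.b = u ^ 2 := by rw [← hn, hμa]; ring
  -- the reflections meet each coset of `K` at most once
  have hcorr : ∀ h, h ∈ K → h ≠ 0 → ∀ i, D.B i * D.B (i + h) = 0 := by
    intro h hh h0 i
    have e1 : ∑ i, D.A i * D.A (h - i) = D.a := by
      refine Finset.sum_congr rfl fun i _ => ?_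
      rw [← D.A_neg (h - i), neg_sub, sub_eq_add_neg, hKper i (-h) (K.neg_mem hh), D.A_mul_self]
    have e2 : ∑ i, D.B i * D.B (i + h) = 0 := by have := D.sq_rot h h0; linarith
    exact (Finset.sum_eq_zero_iff_of_nonneg fun i _ => by
      rcases D.B01 i with h1 | h1 <;> rcases D.B01 (i + h) with h2 | h2 <;> simp [h1, h2]).mp e2 i
        (Finset.mem_univ i)
  have hone : ∀ i, ∑ h ∈ Finset.univ.filter (fun x => x ∈ K), D.B (i + h) ≤ 1 := by
    intro i
    by_contra hgt
    push Not at hgt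
    obtain ⟨h1, hh1, hb1⟩ : ∃ h ∈ Finset.univ.filter (fun x => x ∈ K), D.B (i + h) = 1 := by
      by_contra hall
      push Not at hall
      rw [Finset.sum_eq_zero fun h hh => (D.B01 _).resolve_right (hall h hh)] at hgt
      omega
    rw [← Finset.add_sum_erase _ _ hh1, hb1] at hgt
    obtain ⟨h2, hh2, hb2⟩ := Finset.exists_ne_zero_of_sum_ne_zero (s := (Finset.univ.filter
      (fun x => x ∈ K)).erase h1) (f := fun h => D.B (i + h)) (by omega)
    have h3 := hcorr (h2 - h1) (K.sub_mem (Finset.mem_filter.mp (Finset.mem_of_mem_erase hh2)).2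
      (Finset.mem_filter.mp hh1).2) (sub_ne_zero.mpr (Finset.ne_of_mem_erase hh2)) (i + h1)
    rw [hb1, one_mul, show i + h1 + (h2 - h1) = i + h2 by ring] at h3
    exact hb2 h3
  have hbc : u * D.b ≤ m := by
    have h1 := Finset.sum_le_sum fun i (_ : i ∈ (Finset.univ : Finset (ZMod m))) => hone i
    rw [Finset.sum_comm, Finset.sum_const, Finset.card_univ, ZMod.card, nsmul_one,
      Finset.sum_congr rfl (g := fun _ => D.b) fun h _ => ?_, Finset.sum_const, nsmul_eq_mul,
      ← Fintype.card_subtype, ← Nat.card_eq_fintype_card, ← hc] at h1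
    · push_cast at h1; exact h1
    · exact Fintype.sum_equiv (Equiv.addRight h) _ _ fun _ => rfl
  have hu2 : u = 2 := by
    have : 2 ≤ u := by rw [hu]; calc (2 : ℤ) = 2 ^ 1 := by norm_num
                                _ ≤ 2 ^ t := pow_le_pow_right₀ (by norm_num) ht
    have h1 : u * u ^ 2 ≤ 2 * u ^ 2 := by rw [hbu] at hbc hmb; linarith
    have := le_of_mul_le_mul_right h1 (by positivity)
    linarith
  have ht1 : t = 1 := by
    have : (2 : ℕ) ^ t = 2 ^ 1 := by exact_mod_cast (hu ▸ hu2)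
    exact Nat.pow_right_injective (le_refl 2) this
  subst ht1
  have hm8 : m = 8 := by rw [hm]; norm_num
  subst hm8
  have hB := D.B01
  have hb4 : D.B 0 + D.B 1 + D.B 2 + D.B 3 + D.B 4 + D.B 5 + D.B 6 + D.B 7 = 4 := by
    rw [hu2] at hbu
    rw [b] at hbu
    have := Fin.sum_univ_eight D.B
    exact this.symm.trans (hbu.trans (by norm_num))
  have hK4 : (4 : ZMod 8) ∈ K := by
    have h1 : Nat.card K = 2 := by rw [← hc]; norm_num
    obtain ⟨x, hx⟩ : ∃ x : K, x ≠ 0 := by
      have : Nontrivial K := Finite.one_lt_card_iff_nontrivial.mp (by omega)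
      exact exists_ne 0
    have h2 : addOrderOf (x : ZMod 8) ∣ 2 := by
      rw [AddSubgroup.addOrderOf_coe, ← h1]; exact addOrderOf_dvd_natCard x
    have h3 : ∀ z : ZMod 8, 2 • z = 0 → z = 0 ∨ z = 4 := by decide
    rcases h3 _ (addOrderOf_dvd_iff_nsmul_eq_zero.mp h2) with h | h
    · exact absurd (Subtype.ext h) hx
    · rw [← h]; exact x.2
  have hA4 : D.A 4 = 0 := by
    have h1 := D.A_per 0 4 (by decide)
    rw [zero_add, D.A_zero] at h1
    exact h1
  have ha3 : D.A 3 = D.A 1 := D.A_unit ⟨3, 3, by decide, by decide⟩ 1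
  have ha5 : D.A 5 = D.A 1 := D.A_unit ⟨5, 5, by decide, by decide⟩ 1
  have ha7 : D.A 7 = D.A 1 := D.A_unit ⟨7, 7, by decide, by decide⟩ 1
  have ha6 : D.A 6 = D.A 2 := D.A_unit ⟨3, 3, by decide, by decide⟩ 2
  have hsumA : ∑ i, D.A i * D.A (1 - i) = D.a - 2 := by
    have e1 : ∑ i, D.A i * D.A (1 - i) = D.A 0 * D.A 1 + D.A 1 * D.A 0 + D.A 2 * D.A 7 +
        D.A 3 * D.A 6 + D.A 4 * D.A 5 + D.A 5 * D.A 4 + D.A 6 * D.A 3 + D.A 7 * D.A 2 :=
      Fin.sum_univ_eight fun i : ZMod 8 => D.A i * D.A (1 - i)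
    have e2 : D.a = D.A 0 + D.A 1 + D.A 2 + D.A 3 + D.A 4 + D.A 5 + D.A 6 + D.A 7 :=
      Fin.sum_univ_eight D.A
    rw [ha3, ha5, ha6, ha7, hA4, D.A_zero] at e1 e2
    have hcases : D.a = 2 ∨ D.a = 6 := by
      have hb : D.b = 4 := by rw [hbu, hu2]; norm_num
      have habs' : |D.a - D.b| = 2 := by rw [← hdd, habs, hu2]
      rcases (abs_eq (by norm_num : (0 : ℤ) ≤ 2)).mp habs' with h | h
      · right; linarith
      · left; linarith
    rcases D.A01 1 with h1 | h1 <;> rcases D.A01 2 with h2 | h2 <;> rw [h1, h2] at e1 e2 <;>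
      norm_num at e1 e2 <;> rcases hcases with h | h <;> linarith
  have hN1 : D.B 0 * D.B 1 + D.B 1 * D.B 2 + D.B 2 * D.B 3 + D.B 3 * D.B 4 + D.B 4 * D.B 5 +
      D.B 5 * D.B 6 + D.B 6 * D.B 7 + D.B 7 * D.B 0 = 2 := by
    have h1 := D.sq_rot (1 : ZMod 8) (by decide)
    rw [hsumA, hμa] at h1
    have e : ∑ i, D.B i * D.B (i + 1) = 2 := by linarith
    exact (Fin.sum_univ_eight fun i : ZMod 8 => D.B i * D.B (i + 1)).symm.trans e
  have h4 : ∀ i, D.B i * D.B (i + 4) = 0 := hcorr 4 hK4 (by decide)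
  have toBool : ∀ i, D.B i = ((decide (D.B i = 1)).toNat : ℤ) := fun i => by
    rcases hB i with h | h <;> simp [h]
  have hand : ∀ i k, D.B i * D.B k = ((decide (D.B i = 1) && decide (D.B k = 1)).toNat : ℤ) :=
    fun i k => by rcases hB i with h | h <;> rcases hB k with h' | h' <;> simp [h, h']
  have h4' : ∀ i, (decide (D.B i = 1) && decide (D.B (i + 4) = 1)) = false := fun i => by
    rcases hB i with h | h <;> rcases hB (i + 4) with h' | h' <;> simp [h, h']
    have := h4 i
    rw [h, h'] at this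
    norm_num at this
  refine eight_aux _ _ _ _ _ _ _ _ (h4' 0) (h4' 1) (h4' 2) (h4' 3) ?_ ?_
  · zify
    rw [← toBool, ← toBool, ← toBool, ← toBool, ← toBool, ← toBool, ← toBool, ← toBool]
    exact hb4
  · zify
    rw [← hand, ← hand, ← hand, ← hand, ← hand, ← hand, ← hand, ← hand]
    exact hN1

end Periodic2

end Cfsg.Lib.DihedralB
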